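import Mathlib
import Cfsg.Agent.H524.LinReg_m3
import Cfsg.Agent.S0144
import Cfsg.Agent.H463.LieReg
import Cfsg.Agent.H524.SporPrim
import Cfsg.Agent.H461.Cop.ON
import Cfsg.Agent.H393.Iso.ON
import Cfsg.Agent.FastGrp
import Cfsg.Agent.Prune
set_option linter.all false

section
prune_inst 0x7f00000000000000000000000000000000000000000000000000000000000000000000000000000000000000000000000000000000000000000000000000000000000000000000000000000000000000003fffffffffffffffffffffffffffbeffbdffffffff

-- part: H524/AltCls_mg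
section
set_option linter.all false
open scoped Cfsg.Agent.FastGrp

-- part: H524/AltCls
section
/-!
# Class sizes in the alternating groups

`primB_alt`, `regB_alt`: the properties `PrimB`, `RegB` for the alternating groups of degree at least 5.
-/

set_option autoImplicit false
set_option linter.unusedSectionVars false

namespace Cfsg.Agent.H524.AltCls

open Subgroup Equiv Cfsg.Agent.H524.DirRed
open scoped Nat

variable {α : Type*} [Fintype α] [DecidableEq α]

/-- Products of `m` disjoint cycles of length `s`. -/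
theorem exists_type {m s : ℕ} (hm : m ≠ 0) (hs : 2 ≤ s) (h : m * s ≤ Fintype.card α) (he : Even (m * s + m)) :
    ∃ x : alternatingGroup α, orderOf x = s ∧
      Nat.card (centralizer ({(x : Perm α)} : Set (Perm α))) = (Fintype.card α - m * s)! * s ^ m * m ! := by
  obtain ⟨g, hg⟩ := (Equiv.Perm.exists_with_cycleType_iff α (m := Multiset.replicate m s)).2
    ⟨by simpa using h, fun a ha => by rw [Multiset.eq_of_mem_replicate ha]; exact hs⟩
  have hg1 : g ∈ alternatingGroup α := by
    rw [Equiv.Perm.mem_alternatingGroup, Equiv.Perm.sign_of_cycleType, hg]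
    simp only [Multiset.sum_replicate, smul_eq_mul, Multiset.card_replicate]
    exact Even.neg_one_pow he
  refine ⟨⟨g, hg1⟩, ?_, ?_⟩
  · rw [Subgroup.orderOf_mk, ← Equiv.Perm.lcm_cycleType, hg]
    apply Nat.dvd_antisymm
    · rw [Multiset.lcm_dvd]
      intro b hb
      rw [Multiset.eq_of_mem_replicate hb]
    · exact Multiset.dvd_lcm (Multiset.mem_replicate.2 ⟨hm, rfl⟩)
  · show Nat.card (centralizer ({g} : Set (Perm α))) = _
    rw [Equiv.Perm.nat_card_centralizer, hg]
    simp only [Multiset.sum_replicate, smul_eq_mul, Multiset.prod_replicate, Multiset.toFinset_replicate]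
    rw [if_neg hm, Finset.prod_singleton, Multiset.count_replicate_self]

/-- The class sizes in the alternating group. -/
theorem index_alt (h2 : 2 ≤ Fintype.card α) (x : alternatingGroup α) {c : ℕ}
    (hc : Nat.card (centralizer ({(x : Perm α)} : Set (Perm α))) = c) :
    ∃ d, d ≠ 0 ∧ (centralizer ({x} : Set (alternatingGroup α))).index * c * 2 = (Fintype.card α)! * d ∧ d ∣ 2 := by
  have : Nontrivial α := Fintype.one_lt_card_iff_nontrivial.1 (by omega)
  set C := centralizer ({(x : Perm α)} : Set (Perm α)) with hC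
  have h1 : (C.subgroupOf (alternatingGroup α)) = centralizer ({x} : Set (alternatingGroup α)) := by
    ext y
    rw [mem_subgroupOf, hC, mem_centralizer_singleton_iff, mem_centralizer_singleton_iff]
    constructor
    · intro h; exact Subtype.ext h
    · intro h; exact congrArg Subtype.val h
  have h3 : Nat.card ↥(centralizer ({x} : Set (alternatingGroup α))) *
      (centralizer ({x} : Set (alternatingGroup α))).index * 2 = (Fintype.card α)! := by
    rw [Subgroup.card_mul_index, ← alternatingGroup.index_eq_two (α := α), Subgroup.card_mul_index, Nat.card_perm,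
      Nat.card_eq_fintype_card]
  have h4 : Nat.card ↥(centralizer ({x} : Set (alternatingGroup α))) * (alternatingGroup α).relIndex C = c := by
    rw [← h1, ← hc]
    have h5 := Subgroup.card_mul_index ((alternatingGroup α).subgroupOf C)
    have h6 : Nat.card ↥((alternatingGroup α).subgroupOf C) = Nat.card ↥(C.subgroupOf (alternatingGroup α)) := by
      have e1 := Nat.card_congr (Subgroup.subgroupOfEquivOfLe (inf_le_left : C ⊓ alternatingGroup α ≤ C)).toEquiv
      have e2 := Nat.card_congr
        (Subgroup.subgroupOfEquivOfLe (inf_le_right : C ⊓ alternatingGroup α ≤ alternatingGroup α)).toEquiv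
      rw [Subgroup.inf_subgroupOf_left] at e1
      rw [Subgroup.inf_subgroupOf_right] at e2
      rw [e1, e2]
    rw [← h6]
    exact h5
  have h7 : (alternatingGroup α).relIndex C ∣ 2 := by
    rw [← alternatingGroup.index_eq_two (α := α)]
    exact Subgroup.relIndex_dvd_index_of_normal _ _
  refine ⟨(alternatingGroup α).relIndex C, ?_, ?_, h7⟩
  · intro h0
    rw [h0] at h7
    omega
  · rw [← h3, ← h4]
    ring

theorem dvd_index_odd (h2 : 2 ≤ Fintype.card α) {x : alternatingGroup α} {c q : ℕ} (hq : q.Prime) (hq2 : q ≠ 2)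
    (hc : Nat.card (centralizer ({(x : Perm α)} : Set (Perm α))) = c) (hc0 : c ≠ 0)
    (h : q * c ∣ (Fintype.card α)!) :
    q ∣ (centralizer ({x} : Set (alternatingGroup α))).index := by
  obtain ⟨d, -, hd, -⟩ := index_alt h2 x hc
  obtain ⟨k, hk⟩ := h
  rw [hk] at hd
  have h1 : (centralizer ({x} : Set (alternatingGroup α))).index * 2 = q * (k * d) := by
    apply Nat.eq_of_mul_eq_mul_right (Nat.pos_of_ne_zero hc0)
    rw [mul_right_comm, hd]
    ring
  have h3 : q ∣ (centralizer ({x} : Set (alternatingGroup α))).index * 2 := ⟨_, h1⟩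
  rcases hq.dvd_mul.1 h3 with h4 | h4
  · exact h4
  · exact absurd ((Nat.prime_dvd_prime_iff_eq hq Nat.prime_two).1 h4) hq2

theorem dvd_index_two (h2 : 2 ≤ Fintype.card α) {x : alternatingGroup α} {c : ℕ}
    (hc : Nat.card (centralizer ({(x : Perm α)} : Set (Perm α))) = c) (hc0 : c ≠ 0)
    (h : 4 * c ∣ (Fintype.card α)!) :
    2 ∣ (centralizer ({x} : Set (alternatingGroup α))).index := by
  obtain ⟨d, -, hd, -⟩ := index_alt h2 x hc
  obtain ⟨k, hk⟩ := h
  rw [hk] at hd
  have h1 : (centralizer ({x} : Set (alternatingGroup α))).index = 2 * (k * d) := by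
    apply Nat.eq_of_mul_eq_mul_right (Nat.pos_of_ne_zero hc0)
    apply Nat.eq_of_mul_eq_mul_right (show 0 < 2 by norm_num)
    rw [hd]
    ring
  exact ⟨_, h1⟩

/-- Cycles. -/
theorem exists_cycle {s : ℕ} (hs : 2 ≤ s) (h : s ≤ Fintype.card α) (he : Odd s) :
    ∃ x : alternatingGroup α, orderOf x = s ∧
      Nat.card (centralizer ({(x : Perm α)} : Set (Perm α))) = (Fintype.card α - s)! * s := by
  obtain ⟨x, h1, h2⟩ := exists_type (α := α) (m := 1) (s := s) one_ne_zero hs (by rwa [one_mul]) (by
    rw [one_mul]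
    exact he.add_one)
  refine ⟨x, h1, ?_⟩
  rw [h2]
  simp

theorem factorial_cycle {n s : ℕ} (hs : 1 ≤ s) (h : s ≤ n) : n ! = ((n - s)! * s) * (n.choose s * (s - 1)!) := by
  have h1 := Nat.choose_mul_factorial_mul_factorial h
  rw [← h1, ← Nat.mul_factorial_pred (by omega : s ≠ 0)]
  ring

/-- Long cycles: even index. -/
theorem two_dvd_index_cycle {s : ℕ} (hs : 5 ≤ s) (h : s ≤ Fintype.card α) (he : Odd s) :
    ∃ x : alternatingGroup α, orderOf x = s ∧ 2 ∣ (centralizer ({x} : Set (alternatingGroup α))).index := by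
  obtain ⟨x, h1, h2⟩ := exists_cycle (by omega) h he
  refine ⟨x, h1, dvd_index_two (by omega) h2 ?_ ?_⟩
  · exact Nat.mul_ne_zero (Nat.factorial_ne_zero _) (by omega)
  · rw [factorial_cycle (by omega) h, mul_comm]
    exact Nat.mul_dvd_mul_left _ (Dvd.dvd.mul_left (Nat.dvd_factorial (by norm_num) (by omega)) _)

/-- Cycles longer than `q`. -/
theorem dvd_index_cycle {s q : ℕ} (hq : q.Prime) (hq2 : q ≠ 2) (hs : q < s) (h : s ≤ Fintype.card α) (he : Odd s) :
    ∃ x : alternatingGroup α, orderOf x = s ∧ q ∣ (centralizer ({x} : Set (alternatingGroup α))).index := by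
  have := hq.two_le
  obtain ⟨x, h1, h2⟩ := exists_cycle (by omega) h he
  refine ⟨x, h1, dvd_index_odd (by omega) hq hq2 h2 ?_ ?_⟩
  · exact Nat.mul_ne_zero (Nat.factorial_ne_zero _) (by omega)
  · rw [factorial_cycle (by omega) h, mul_comm]
    exact Nat.mul_dvd_mul_left _ (Dvd.dvd.mul_left (Nat.dvd_factorial hq.pos (by omega)) _)

/-- Shorter cycles. -/
theorem dvd_index_of_not_dvd {c q : ℕ} (hq : q.Prime) (hq2 : q ≠ 2) (h2 : 2 ≤ Fintype.card α)
    (hqn : q ≤ Fintype.card α) {x : alternatingGroup α}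
    (hc : Nat.card (centralizer ({(x : Perm α)} : Set (Perm α))) = c) (h : ¬ q ∣ c) :
    q ∣ (centralizer ({x} : Set (alternatingGroup α))).index := by
  refine dvd_index_odd h2 hq hq2 hc ?_ ?_
  · rintro rfl
    exact h (dvd_zero _)
  · refine Nat.Coprime.mul_dvd_of_dvd_of_dvd ((Nat.Prime.coprime_iff_not_dvd hq).2 h)
      (Nat.dvd_factorial hq.pos hqn) ?_
    rw [← hc, ← Nat.card_eq_fintype_card, ← Nat.card_perm]
    exact Subgroup.card_subgroup_dvd_card _

/-- **Involutions**: for every odd prime `q` dividing the order there is an involution whose class has size divisible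
by `q`. -/
theorem exists_involution (h5 : 5 ≤ Fintype.card α) {q : ℕ} (hq : q.Prime) (hq2 : q ≠ 2) (hqn : q ≤ Fintype.card α) :
    ∃ x : alternatingGroup α, orderOf x = 2 ∧ q ∣ (centralizer ({x} : Set (alternatingGroup α))).index := by
  set n := Fintype.card α with hn
  have hq3 : 3 ≤ q := by
    have := hq.two_le
    omega
  have hqodd : q % 2 = 1 := hq.eq_two_or_odd.resolve_left hq2
  -- the general statement
  have key : ∀ m : ℕ, m ≠ 0 → Even m → m * 2 ≤ n → q * ((n - m * 2)! * 2 ^ m * m !) ∣ n ! →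
      ∃ x : alternatingGroup α, orderOf x = 2 ∧ q ∣ (centralizer ({x} : Set (alternatingGroup α))).index := by
    intro m hm he hmn hd
    obtain ⟨x, h1, h2⟩ := exists_type (α := α) (m := m) (s := 2) hm le_rfl (by rwa [← hn]) (by
      rw [mul_comm, ← Nat.succ_mul]
      exact he.mul_left _)
    refine ⟨x, h1, dvd_index_odd (by omega) hq hq2 h2 ?_ hd⟩
    positivity
  have hmult : ∀ m : ℕ, m * 2 ≤ n → ∃ t u : ℕ, n ! = ((n - m * 2)! * 2 ^ m * m !) * t ∧ n ! = (n - m * 2)! * m ! * m ! * u := by
    intro m hm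
    have h1 := Nat.choose_mul_factorial_mul_factorial hm
    have h3 : m ! * m ! ∣ (m * 2)! := by
      have := Nat.factorial_mul_factorial_dvd_factorial_add m m
      rwa [← mul_two] at this
    obtain ⟨v, hv⟩ := h3
    have h4 : 2 ^ m * m ! ∣ (m * 2)! := by
      obtain ⟨w, hw⟩ : ∃ w, (2 * m)! = 2 ^ m * m ! * w := by
        clear hv v h1 hm
        induction m with
        | zero => exact ⟨1, by simp⟩
        | succ k ih =>
          obtain ⟨w, hw⟩ := ih
          refine ⟨w * (2 * k + 1), ?_⟩
          rw [show 2 * (k + 1) = 2 * k + 1 + 1 from by ring, Nat.factorial_succ, Nat.factorial_succ, hw,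
            Nat.factorial_succ, pow_succ]
          ring
      exact ⟨w, by rw [mul_comm m 2, hw]⟩
    obtain ⟨w, hw⟩ := h4
    refine ⟨n.choose (m * 2) * w, n.choose (m * 2) * v, ?_, ?_⟩
    · rw [← h1, hw]; ring
    · rw [← h1, hv]; ring
  by_cases hbig : 2 * q + 2 ≤ n
  · refine key (q + 1) (by omega) ?_ (by omega) ?_
    · rw [Nat.even_iff]; omega
    · obtain ⟨t, u, h1, h2⟩ := hmult (q + 1) (by omega)
      have h3 : q ∣ t := by
        have hcop : (2 ^ (q + 1)).Coprime q := by
          apply Nat.Coprime.pow_left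
          exact (Nat.coprime_primes Nat.prime_two hq).2 (Ne.symm hq2)
        have h4 : 2 ^ (q + 1) * t = (q + 1)! * u := by
          have hpos : 0 < (n - (q + 1) * 2)! * (q + 1)! := by positivity
          apply Nat.eq_of_mul_eq_mul_left hpos
          calc (n - (q + 1) * 2)! * (q + 1)! * (2 ^ (q + 1) * t)
              = (n - (q + 1) * 2)! * 2 ^ (q + 1) * (q + 1)! * t := by ring
            _ = n ! := h1.symm
            _ = (n - (q + 1) * 2)! * (q + 1)! * ((q + 1)! * u) := by rw [h2]; ring
        have h5 : q ∣ 2 ^ (q + 1) * t := by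
          rw [h4]
          exact Dvd.dvd.mul_right (Nat.dvd_factorial hq.pos (by omega)) _
        exact hcop.symm.dvd_of_dvd_mul_left h5
      rw [h1, mul_comm q]
      exact Nat.mul_dvd_mul_left _ h3
  · -- `n ≤ 2 q + 1`
    by_cases h7 : n = 7 ∧ q = 3
    · obtain ⟨h7, h3⟩ := h7
      refine key 2 (by norm_num) (by norm_num) (by omega) ?_
      rw [h7, h3]
      decide
    · refine key (2 * (n / 4)) (by omega) (by simp) (by omega) ?_
      obtain ⟨t, u, h1, -⟩ := hmult (2 * (n / 4)) (by omega)
      have hcop : q.Coprime ((n - 2 * (n / 4) * 2)! * 2 ^ (2 * (n / 4)) * (2 * (n / 4))!) := by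
        apply Nat.Coprime.mul_right
        · apply Nat.Coprime.mul_right
          · rw [Nat.Prime.coprime_iff_not_dvd hq, hq.dvd_factorial]
            omega
          · apply Nat.Coprime.pow_right
            exact (Nat.coprime_primes hq Nat.prime_two).2 hq2
        · rw [Nat.Prime.coprime_iff_not_dvd hq, hq.dvd_factorial]
          omega
      exact Nat.Coprime.mul_dvd_of_dvd_of_dvd hcop (Nat.dvd_factorial hq.pos hqn) ⟨t, h1⟩

theorem le_card_of_dvd (h2 : 2 ≤ Fintype.card α) {q : ℕ} (hq : q.Prime) (h : q ∣ Nat.card (alternatingGroup α)) :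
    q ≤ Fintype.card α := by
  have : Nontrivial α := Fintype.one_lt_card_iff_nontrivial.1 (by omega)
  rw [← hq.dvd_factorial]
  have h3 : Nat.card (alternatingGroup α) * 2 = (Fintype.card α)! := by
    rw [← alternatingGroup.index_eq_two (α := α), Subgroup.card_mul_index, Nat.card_perm, Nat.card_eq_fintype_card]
  rw [← h3]
  exact Dvd.dvd.mul_right h _

theorem primB_alt (h5 : 5 ≤ Fintype.card α) {p : ℕ} (hp : p.Prime) (h : p ∣ Nat.card (alternatingGroup α)) :
    PrimB (alternatingGroup α) p := by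
  by_cases hp2 : p = 2
  · subst hp2
    obtain ⟨x, h1, h2⟩ := two_dvd_index_cycle (α := α) (s := 5) le_rfl h5 (by decide)
    exact ⟨x, ⟨5, 1, by norm_num, by norm_num, by rw [h1, pow_one]⟩, h2⟩
  · obtain ⟨x, h1, h2⟩ := exists_involution h5 hp hp2 (le_card_of_dvd (by omega) hp h)
    exact ⟨x, ⟨2, 1, by norm_num, Ne.symm hp2, by rw [h1, pow_one]⟩, h2⟩

theorem regB_alt (h5 : 5 ≤ Fintype.card α) {p q : ℕ} (hp : p.Prime) (hq : q.Prime) (hpq : p ≠ q)
    (h : q ∣ Nat.card (alternatingGroup α)) : RegB (alternatingGroup α) p q := by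
  have hqn := le_card_of_dvd (α := α) (by omega) hq h
  by_cases hq2 : q = 2
  · subst hq2
    by_cases hp5 : p = 5
    · subst hp5
      by_cases h7 : 7 ≤ Fintype.card α
      · obtain ⟨x, h1, h2⟩ := two_dvd_index_cycle (α := α) (s := 7) (by norm_num) h7 (by decide)
        exact ⟨x, by rw [h1]; decide, h2⟩
      · obtain ⟨x, h1, h2⟩ := exists_cycle (α := α) (s := 3) (by norm_num) (by omega) (by decide)
        refine ⟨x, by rw [h1]; decide, dvd_index_two (by omega) h2 (by positivity) ?_⟩
        have h6 : Fintype.card α = 5 ∨ Fintype.card α = 6 := by omega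
        rcases h6 with h6 | h6 <;> rw [h6] <;> decide
    · obtain ⟨x, h1, h2⟩ := two_dvd_index_cycle (α := α) (s := 5) le_rfl h5 (by decide)
      refine ⟨x, ?_, h2⟩
      rw [h1, Nat.prime_dvd_prime_iff_eq hp (by norm_num)]
      exact hp5
  · have hq3 : 3 ≤ q := by
      have := hq.two_le
      omega
    have hqodd : q % 2 = 1 := hq.eq_two_or_odd.resolve_left hq2
    by_cases hp2 : p = 2
    · subst hp2
      by_cases hbig : q + 2 ≤ Fintype.card α
      · obtain ⟨x, h1, h2⟩ := dvd_index_cycle (α := α) (s := q + 2) hq hq2 (by omega) hbig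
          (by rw [Nat.odd_iff]; omega)
        exact ⟨x, by rw [h1]; omega, h2⟩
      · obtain ⟨x, h1, h2⟩ := exists_cycle (α := α) (s := q - 2) (by omega) (by omega) (by rw [Nat.odd_iff]; omega)
        refine ⟨x, by rw [h1]; omega, dvd_index_of_not_dvd hq hq2 (by omega) hqn h2 ?_⟩
        rw [hq.dvd_mul, hq.dvd_factorial]
        rintro (h3 | h3)
        · omega
        · have := Nat.le_of_dvd (by omega) h3
          omega
    · obtain ⟨x, h1, h2⟩ := exists_involution h5 hq hq2 hqn
      refine ⟨x, ?_, h2⟩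
      rw [h1, Nat.prime_dvd_prime_iff_eq hp (by norm_num)]
      exact hp2

end Cfsg.Agent.H524.AltCls
end

-- part: H524/LieRow
section
/-!
# Class sizes in the groups of Lie type

* `primB_of_regular`, `regB_of_regular`: groups having an `l`-element whose centralizer is an `l`-group;
* `primB_lie`, `regB_lie`: groups of Lie type in characteristic `l` (`regB_lie` for `p ≠ l`);
* `exists_third_prime`: three primes divide the order of a nonabelian simple group.
-/

set_option autoImplicit false
set_option linter.unusedSectionVars false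

namespace Cfsg.Agent.H524.LieRow

open Subgroup Cfsg.Agent.H524.DirRed Cfsg.Agent.H524.ClassSize

universe u

/-- The order of a nonabelian simple group has a prime divisor different from two given primes. -/
theorem exists_third_prime {S : Type*} [Group S] [Finite S] [IsSimpleGroup S] (hna : ¬ ∀ a b : S, a * b = b * a)
    {p l : ℕ} (hp : p.Prime) (hl : l.Prime) : ∃ r, r.Prime ∧ r ≠ p ∧ r ≠ l ∧ r ∣ Nat.card S := by
  by_contra hcon
  push Not at hcon
  have h1 : Nat.card S ≠ 0 := Nat.card_pos.ne'
  have h2 : ∃ b, Nat.card S / p ^ (Nat.card S).factorization p = l ^ b := by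
    refine ⟨_, Nat.eq_prime_pow_of_unique_prime_dvd (Nat.ordCompl_pos p h1).ne' ?_⟩
    intro d hd hdd
    by_contra hdl
    refine hcon d hd ?_ hdl (hdd.trans (Nat.ordCompl_dvd _ _))
    rintro rfl
    exact Nat.not_dvd_ordCompl hd h1 hdd
  obtain ⟨b, hb⟩ := h2
  have h3 : Nat.card S = p ^ (Nat.card S).factorization p * l ^ b := by
    rw [← hb, Nat.ordProj_mul_ordCompl_eq_self]
  have h4 := S0144.result (G := S) p l _ b hp hl h3
  exact hna (fun a b => (IsSimpleGroup.comm_iff_isSolvable.2 h4) a b)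

section

variable {S : Type*} [Group S] [Finite S] {l : ℕ}

/-- An element of prime order `r ≠ l` has class size divisible by `l`. -/
theorem dvd_index_of_regular (hl : l.Prime) {z : S} (hz : ∃ k, orderOf z = l ^ k)
    (hC : IsPGroup l (centralizer ({z} : Set S))) {r : ℕ} (hr : r.Prime) (hrl : r ≠ l) {x : S}
    (hx : orderOf x = r) : l ∣ (centralizer ({x} : Set S)).index := by
  have : Fact l.Prime := ⟨hl⟩
  by_contra hcon
  obtain ⟨P, -, hP⟩ := exists_sylow_between hcon (A := ⊥) (IsPGroup.of_bot) bot_le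
  have hz1 : IsPGroup l (zpowers z) := by
    obtain ⟨k, hk⟩ := hz
    apply IsPGroup.of_card (n := k)
    rw [Nat.card_zpowers, hk]
  obtain ⟨Q, hQ⟩ := hz1.exists_le_sylow
  obtain ⟨g, hg⟩ := MulAction.exists_smul_eq S Q P
  have h1 : g * z * g⁻¹ ∈ (P : Subgroup S) := by
    rw [← hg]
    exact Subgroup.smul_mem_pointwise_smul_iff.2 (hQ (mem_zpowers z))
  have h2 := hP h1
  rw [mem_centralizer_singleton_iff] at h2
  have h3 : g⁻¹ * x * g ∈ centralizer ({z} : Set S) := by
    rw [mem_centralizer_singleton_iff]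
    have e : g⁻¹ * (x * (g * z * g⁻¹)) * g = g⁻¹ * x * g * z := by group
    have e' : g⁻¹ * ((g * z * g⁻¹) * x) * g = z * (g⁻¹ * x * g) := by group
    rw [← e, ← e', h2]
  obtain ⟨j, hj⟩ := hC ⟨_, h3⟩
  have h4 : (g⁻¹ * x * g) ^ l ^ j = 1 := congrArg Subtype.val hj
  have h5 : orderOf (g⁻¹ * x * g) = r := by
    rw [← hx]
    have := MulEquiv.orderOf_eq (MulAut.conj g⁻¹) x
    simpa [MulAut.conj_apply] using this
  have h6 := orderOf_dvd_of_pow_eq_one h4
  rw [h5] at h6
  exact hrl ((Nat.prime_dvd_prime_iff_eq hr hl).1 (hr.dvd_of_dvd_pow h6))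

/-- The class of `z` has size divisible by every prime `q ≠ l` dividing the group order. -/
theorem dvd_index_regular {z : S} (hl : l.Prime) (hC : IsPGroup l (centralizer ({z} : Set S))) {q : ℕ} (hq : q.Prime)
    (hql : q ≠ l) (hd : q ∣ Nat.card S) : q ∣ (centralizer ({z} : Set S)).index := by
  have : Fact l.Prime := ⟨hl⟩
  refine dvd_index hq hd fun h => ?_
  obtain ⟨n, hn⟩ := IsPGroup.iff_card.1 hC
  rw [hn] at h
  exact hql ((Nat.prime_dvd_prime_iff_eq hq hl).1 (hq.dvd_of_dvd_pow h))

theorem primB_of_regular [IsSimpleGroup S] (hna : ¬ ∀ a b : S, a * b = b * a) (hl : l.Prime) {z : S}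
    (hz : ∃ k, orderOf z = l ^ k) (hC : IsPGroup l (centralizer ({z} : Set S))) {p : ℕ} (hp : p.Prime)
    (hd : p ∣ Nat.card S) : PrimB S p := by
  by_cases hpl : p = l
  · subst hpl
    obtain ⟨r, hr, hrp, -, hrS⟩ := exists_third_prime hna hp hp
    have : Fact r.Prime := ⟨hr⟩
    obtain ⟨x, hx⟩ := exists_prime_orderOf_dvd_card' r hrS
    exact ⟨x, ⟨r, 1, hr, hrp, by rw [hx, pow_one]⟩, dvd_index_of_regular hp hz hC hr hrp hx⟩
  · obtain ⟨k, hk⟩ := hz
    exact ⟨z, ⟨l, k, hl, Ne.symm hpl, hk⟩, dvd_index_regular hl hC hp hpl hd⟩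

theorem regB_of_regular [IsSimpleGroup S] (hna : ¬ ∀ a b : S, a * b = b * a) (hl : l.Prime) {z : S}
    (hz : ∃ k, orderOf z = l ^ k) (hC : IsPGroup l (centralizer ({z} : Set S))) {p q : ℕ} (hp : p.Prime)
    (hq : q.Prime) (hpl : p ≠ l) (hd : q ∣ Nat.card S) : RegB S p q := by
  by_cases hql : q = l
  · subst hql
    obtain ⟨r, hr, hrp, hrq, hrS⟩ := exists_third_prime hna hp hq
    have : Fact r.Prime := ⟨hr⟩
    obtain ⟨x, hx⟩ := exists_prime_orderOf_dvd_card' r hrS
    refine ⟨x, ?_, dvd_index_of_regular hq hz hC hr hrq hx⟩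
    rw [hx]
    exact fun h => hrp ((Nat.prime_dvd_prime_iff_eq hp hr).1 h).symm
  · refine ⟨z, ?_, dvd_index_regular hl hC hq hql hd⟩
    obtain ⟨k, hk⟩ := hz
    rw [hk]
    exact fun h => hpl ((Nat.prime_dvd_prime_iff_eq hp hl).1 (hp.dvd_of_dvd_pow h))

end

/-- **Groups of Lie type.** -/
theorem primB_lie {S : Type u} [Group S] [Finite S] [hs : IsSimpleGroup S] (hna : ¬ ∀ a b : S, a * b = b * a) {l : ℕ}
    (h : Cfsg.IsLieTypeChar l S) {p : ℕ} (hp : p.Prime) (hd : p ∣ Nat.card S) : PrimB S p := by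
  obtain ⟨z, -, hz, hC⟩ := H463.LieReg.exists_regular_isPGroup hs h
  exact primB_of_regular hna (H463.LieReg.prime h) hz hC hp hd

/-- **Groups of Lie type**, `p ≠ l`. -/
theorem regB_lie {S : Type u} [Group S] [Finite S] [hs : IsSimpleGroup S] (hna : ¬ ∀ a b : S, a * b = b * a) {l : ℕ}
    (h : Cfsg.IsLieTypeChar l S) {p q : ℕ} (hp : p.Prime) (hq : q.Prime) (hpl : p ≠ l) (hd : q ∣ Nat.card S) :
    RegB S p q := by
  obtain ⟨z, -, hz, hC⟩ := H463.LieReg.exists_regular_isPGroup hs h
  exact regB_of_regular hna (H463.LieReg.prime h) hz hC hp hq hpl hd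

end Cfsg.Agent.H524.LieRow
end
end

-- part: H524/SporON
section
set_option linter.all false
open scoped Cfsg.Agent.FastGrp

/-!
# `PrimB` for `O'N`

The element `v a` (`v` of order 4, `a` an involution of `C(v) = 4 · L₃(4)`) has a 2-group as centralizer.
-/

set_option autoImplicit false

namespace Cfsg.Agent.H524.SporTool

open Subgroup Cfsg Cfsg.Agent.H524.DirRed
open Cfsg.Spor (ON)
open Cfsg.Agent.SporadicB.ON45Word (on)
open Cfsg.Agent.KFacts.ON.Words Cfsg.Agent.KFacts.ON.Struct

/-- a prime order element commuting with `v a` has order 2 -/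
theorem two_of_comm_va {x : ON} (hx : (orderOf x).Prime) (h : x * (v * on .a) = (v * on .a) * x) : orderOf x = 2 := by
  by_contra hne
  have ho : Odd (orderOf x) := hx.odd_of_ne_two hne
  have hav : on .a * v = v * on .a := mem_J.1 aJ
  have hsq : (v * on .a) * (v * on .a) = on .f := by
    calc (v * on .a) * (v * on .a) = v * (on .a * v) * on .a := by group
      _ = v * v * (on .a * on .a) := by rw [hav]; group
      _ = on .f := by rw [aa, mul_one, vv]
  have hxf : x * on .f = on .f * x := by
    rw [← hsq]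
    have hc : Commute x (v * on .a) := h
    exact (hc.mul_right hc)
  have hxK := KFacts.ON.Struct.mem_K0.2 hxf
  have hxJ : x ∈ J := by
    have h1 : x * x ∈ J := @Subgroup.mul_self_mem_of_index_two _ _ _ index_J ⟨x, hxK⟩
    obtain ⟨k, hk⟩ := ho
    have h2 : x = (x * x) ^ (k + 1) := by
      rw [← pow_two, ← pow_mul, show 2 * (k + 1) = orderOf x + 1 by omega, pow_succ, pow_orderOf_eq_one, one_mul]
    rw [h2]
    exact pow_mem h1 _
  have hxv : Commute x v := mem_J.1 hxJ
  have hxa : Commute x (on .a) := by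
    have hc : Commute x (v * on .a) := h
    have h3 := (hxv.inv_right).mul_right hc
    rwa [inv_mul_cancel_left] at h3
  exact hne (H461.Cop.two_of_comm hx hxv hxa)

theorem orderOf_va : orderOf (v * on .a : ON) = 2 ^ 2 := by
  have hav : on .a * v = v * on .a := mem_J.1 aJ
  have hsq : (v * on .a) ^ 2 = on .f := by
    rw [pow_two]
    calc (v * on .a) * (v * on .a) = v * (on .a * v) * on .a := by group
      _ = v * v * (on .a * on .a) := by rw [hav]; group
      _ = on .f := by rw [aa, mul_one, vv]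
  have : Fact (Nat.Prime 2) := ⟨Nat.prime_two⟩
  refine orderOf_eq_prime_pow (n := 1) ?_ ?_
  · rw [pow_one, hsq]
    exact f_ne_one
  · rw [show (2 : ℕ) ^ (1 + 1) = 2 * 2 by norm_num, pow_mul, hsq, pow_two, ff]

theorem primB_on {G : Type*} [Group G] [Finite G] (h : Spor.IsoON G) :
    ∀ p : ℕ, p.Prime → p ∣ Nat.card G → PrimB G p := by
  have hN := NotCT.Orders.on h
  have hna := H393.Iso.na_on h
  intro p hp hd
  by_cases hp2 : p = 2
  · subst hp2
    exact primB_two hna (by norm_num) (by norm_num) (by rw [hN]; norm_num) (by rw [hN]; norm_num)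
  · obtain ⟨e⟩ := h
    have hf : Finite ON := Finite.of_equiv _ e.toEquiv
    refine PrimB.congr e.symm ?_
    refine primB_of_not_comm (r := 2) (k := 2) hp Nat.prime_two (Ne.symm hp2) ?_ orderOf_va fun x hx hc => ?_
    · rwa [← Nat.card_congr e.toEquiv]
    · have h1 := two_of_comm_va (by rw [hx]; exact hp) hc
      exact hp2 (hx.symm.trans h1)

end Cfsg.Agent.H524.SporTool
end
end
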