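import Mathlib
import Cfsg.Agent.H524.LinReg_m3
import Cfsg.Agent.H729.PairTable
import Cfsg.Agent.H604.Cop.Conway
import Cfsg.Agent.H413.JOneLocal
import Cfsg.Agent.SporRec.J1.EqTopC
import Cfsg.Agent.H603.SporElim
import Cfsg.Agent.H865.RhoEleven
import Cfsg.Agent.H828.KillHe
import Cfsg.Agent.H845.CopTits
import Cfsg.Agent.H843.N29
import Cfsg.Agent.H393.Iso.Mathieu
import Cfsg.Agent.H898.J3Cent
import Cfsg.Agent.H836.Main
import Cfsg.Agent.H839.SeventeenMain_m3
import Cfsg.Agent.H547.SelfCent.McLHS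
import Cfsg.Agent.H393.Iso.HS
import Cfsg.Agent.H613.Ly5.ThirtyOne
import Cfsg.Agent.Prune
set_option linter.all false

section
prune_inst 0x7f00000000000000000000000000000000000000000000000000000000000000000000000000000000000000000000000000000000000000000000000000000000000000000000000000000000000000003fffffffffffffffffffffffffffbeffbdffffffff

-- part: H524/SporSC
section
set_option linter.all false
open scoped Cfsg.Agent.FastGrp

/-!
# Self-centralizing elements of prime order: `J₂`, `Ru`, `Suz`, `Co₁`, `Co₂`, `Co₃`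

`SC S` : some element of prime order `r` has a centralizer of order `r`.
-/

set_option autoImplicit false

namespace Cfsg.Agent.H524.SporTool

open Subgroup Cfsg Cfsg.Agent.H524.DirRed

/-- an element of prime order with a centralizer of the same order -/
def SC (S : Type*) [Group S] : Prop :=
  ∃ x : S, (orderOf x).Prime ∧ Nat.card (centralizer ({x} : Set S)) = orderOf x

theorem SC.congr {S T : Type*} [Group S] [Group T] (e : S ≃* T) (h : SC S) : SC T := by
  obtain ⟨x, h1, h2⟩ := h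
  exact ⟨e x, by rwa [MulEquiv.orderOf_eq], by rw [card_centralizer_equiv, MulEquiv.orderOf_eq, h2]⟩

theorem SC.exists_cc {S : Type*} [Group S] [Finite S] (h : SC S) : ∃ T : Subgroup S, CC T := by
  obtain ⟨x, h1, h2⟩ := h
  exact ⟨_, CC.of_card h1 rfl h2⟩

theorem SC.of_cent {S : Type*} [Group S] {x : S} {r : ℕ} (hr : r.Prime) (hx : orderOf x = r)
    (h : ∀ c : S, c * x = x * c → ∃ i : ℕ, c = x ^ i) : SC S := by
  refine ⟨x, by rwa [hx], ?_⟩
  have h1 : centralizer ({x} : Set S) = zpowers x := by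
    apply le_antisymm
    · intro c hc
      obtain ⟨i, rfl⟩ := h c (mem_centralizer_singleton_iff.1 hc)
      exact pow_mem (mem_zpowers x) i
    · rw [zpowers_le]
      exact mem_centralizer_singleton_iff.2 rfl
  rw [h1, Nat.card_zpowers]

theorem SC.of_card {S : Type*} [Group S] [Finite S] {r : ℕ} (hr : r.Prime) (hd : r ∣ Nat.card S)
    (h : ∀ x : S, orderOf x = r → Nat.card (centralizer ({x} : Set S)) = r) : SC S := by
  have : Fact r.Prime := ⟨hr⟩
  obtain ⟨x, hx⟩ := exists_prime_orderOf_dvd_card' r hd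
  exact ⟨x, by rwa [hx], by rw [hx, h x hx]⟩

/-- from a subgroup of prime order -/
theorem SC.of_zpowers {S : Type*} [Group S] [Finite S] {r : ℕ} (hr : r.Prime) (hd : r ∣ Nat.card S)
    (h : ∀ P : Subgroup S, Nat.card P = r → Nat.card (centralizer (P : Set S)) = r) : SC S := by
  refine SC.of_card hr hd fun x hx => ?_
  have h1 := h (zpowers x) (by rw [Nat.card_zpowers, hx])
  have h3 : centralizer ((zpowers x : Subgroup S) : Set S) = centralizer ({x} : Set S) := by
    rw [zpowers_eq_closure, centralizer_closure]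
  rwa [h3] at h1

theorem sc_j2 {G : Type*} [Group G] (h : Spor.IsoJ2 G) : SC G := by
  obtain ⟨e⟩ := h
  obtain ⟨f⟩ := Cfsg.Agent.J2.HundredGens.J2_iso Cfsg.Agent.S1619.result.2.2.2
  refine SC.congr (e.trans f).symm (SC.of_cent (r := 7) (by norm_num)
    (x := (⟨OddHalf.Table.OutJ2.x, OddHalf.Table.OutJ2.x_mem⟩ : SporadicA.J2Hundred.G))
    (by rw [Subgroup.orderOf_mk]; exact OddHalf.Table.OutJ2.order_x) ?_)
  rintro ⟨c, hc⟩ h
  obtain ⟨i, hi⟩ := OddHalf.Table.OutJ2.cent_x hc (congrArg Subtype.val h)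
  exact ⟨i, Subtype.ext hi⟩

open OddHalf.Table.OutRu in
theorem sc_ru {G : Type*} [Group G] (h : Spor.IsoRu G) : SC G := by
  obtain ⟨e⟩ := h
  exact SC.congr (e.trans RuLat.Main.equiv).symm (SC.of_cent (r := 29) (by norm_num) orderOf_x cent_x')

open OddHalf.Table.OutSuz OddHalf.Table.SuzRep in
theorem sc_suz {G : Type*} [Group G] (h : Spor.IsoSuz G) : SC G := by
  obtain ⟨e⟩ := h
  exact SC.congr e.symm (SC.of_cent (r := 11) (by norm_num) order_x cent_x)

open Cfsg Cfsg.Spor Cfsg.Agent.LeechMat.Core Cfsg.Agent.SporadicA.GolayBase Cfsg.Agent.SporadicStructure.TabPerm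
  Cfsg.Agent.CpAutBig.FixCount Cfsg.Agent.CpAutBig.Tab Cfsg.Agent.MonsterU.Lam2 Cfsg.Agent.CoOneType.ClosingFacts
  Cfsg.Agent.CpAutBig in
open Cfsg.Agent.SporadicA.Co0Mono (signCo0 permCo0 permCo0_smul permMap_apply) in
open Cfsg.Agent.SporadicA.Co1Simple (allOne) in
open Cfsg.Agent.H604.Cop.Conway in
theorem sc_of_inc {K : Type*} [Group K] [Finite K]
    (i : K →* Co0) (hi : Function.Injective i) (hc : 23 ∣ Nat.card K) (hZ : ∀ g : K, i g ≠ signCo0 allOne) :
    SC K := by
  have hfin := CoZero.finite_co0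
  have h23 : Fact (Nat.Prime 23) := ⟨by norm_num⟩
  obtain ⟨z, hz⟩ := exists_prime_orderOf_dvd_card' 23 hc
  have hz' : orderOf (i z) = 23 := by rw [orderOf_injective i hi, hz]
  refine ⟨z, by rw [hz]; norm_num, card_eq hz ?_⟩
  have h1 := card_cent_co0 hz'
  classical
  let f : ↥(centralizer ({z} : Set K)) × Bool → ↥(centralizer ({i z} : Set Co0)) := fun a =>
    ⟨i a.1 * (if a.2 then signCo0 allOne else 1), by
      have h2 := mem_centralizer_singleton_iff.1 a.1.2
      rw [mem_centralizer_singleton_iff]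
      have h3 : i a.1 * i z = i z * i a.1 := by rw [← map_mul, h2, map_mul]
      by_cases hb : a.2
      · rw [if_pos hb, mul_assoc, LThreeBX.NoSeven.n_comm, ← mul_assoc, h3, mul_assoc]
      · rw [if_neg hb, mul_one, h3]⟩
  have hf : Function.Injective f := by
    rintro ⟨a, s⟩ ⟨b, t⟩ h
    have h2 : i a * (if s then signCo0 allOne else 1) = i b * (if t then signCo0 allOne else 1) :=
      congrArg Subtype.val h
    have key : ∀ a b : K, i a * signCo0 allOne = i b → False := by
      intro a b hab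
      apply hZ (a⁻¹ * b)
      rw [map_mul, map_inv, ← hab, inv_mul_cancel_left]
    cases s <;> cases t
    · replace h2 : i a * 1 = i b * 1 := h2
      rw [Prod.mk.injEq]
      exact ⟨Subtype.ext (hi (mul_right_cancel h2)), rfl⟩
    · replace h2 : i a * 1 = i b * signCo0 allOne := h2
      rw [mul_one] at h2
      exact (key _ _ h2.symm).elim
    · replace h2 : i a * signCo0 allOne = i b * 1 := h2
      rw [mul_one] at h2
      exact (key _ _ h2).elim
    · replace h2 : i a * signCo0 allOne = i b * signCo0 allOne := h2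
      rw [Prod.mk.injEq]
      exact ⟨Subtype.ext (hi (mul_right_cancel h2)), rfl⟩
  have h2 := Nat.card_le_card_of_injective f hf
  rw [Nat.card_prod, Nat.card_eq_fintype_card (α := Bool), Fintype.card_bool] at h2
  omega

open Cfsg Cfsg.Spor Cfsg.Agent.LeechMat.Core Cfsg.Agent.SporadicA.GolayBase Cfsg.Agent.SporadicStructure.TabPerm
  Cfsg.Agent.CpAutBig.FixCount Cfsg.Agent.CpAutBig.Tab Cfsg.Agent.MonsterU.Lam2 Cfsg.Agent.CoOneType.ClosingFacts
  Cfsg.Agent.CpAutBig in
open Cfsg.Agent.SporadicA.Co0Mono (signCo0 permCo0 permCo0_smul permMap_apply) in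
open Cfsg.Agent.SporadicA.Co1Simple (allOne) in
theorem sc_co2 {G : Type*} [Group G] (h : Spor.IsoCo2 G) : SC G := by
  obtain ⟨e⟩ := h
  have hf := H49.CoStab.finite_co2
  refine SC.congr e.symm ?_
  let i : Spor.Co2 →* Co0 :=
    { toFun := fun g => ⟨g.1, g.2.1⟩, map_one' := rfl, map_mul' := fun _ _ => rfl }
  refine sc_of_inc i
    (fun a b hab => Subtype.ext (congrArg (fun z : Co0 => (z : Equiv.Perm leechLattice)) hab))
    (by rw [H49.CoStab.card_co2]; norm_num) ?_
  intro g hg
  have h1 : i g • Spor.leechU = Spor.leechU := g.2.2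
  rw [hg] at h1
  have h2 := congrArg (fun u : leechLattice => (u : GolayPt → ℤ) none) h1
  rw [show ((signCo0 allOne : Co0) • Spor.leechU) = -Spor.leechU from Cfsg.Agent.SporadicA.Co1Simple.allOne_smul _] at h2
  have h3 : -((4 : ℤ)) = 4 := h2
  omega

open Cfsg Cfsg.Spor Cfsg.Agent.LeechMat.Core Cfsg.Agent.SporadicA.GolayBase Cfsg.Agent.SporadicStructure.TabPerm
  Cfsg.Agent.CpAutBig.FixCount Cfsg.Agent.CpAutBig.Tab Cfsg.Agent.MonsterU.Lam2 Cfsg.Agent.CoOneType.ClosingFacts
  Cfsg.Agent.CpAutBig in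
open Cfsg.Agent.SporadicA.Co0Mono (signCo0 permCo0 permCo0_smul permMap_apply) in
open Cfsg.Agent.SporadicA.Co1Simple (allOne) in
theorem sc_co3 {G : Type*} [Group G] (h : Spor.IsoCo3 G) : SC G := by
  obtain ⟨e⟩ := h
  have hf := H49.CoStab.finite_co3
  refine SC.congr e.symm ?_
  let i : Spor.Co3 →* Co0 :=
    { toFun := fun g => ⟨g.1, g.2.1⟩, map_one' := rfl, map_mul' := fun _ _ => rfl }
  refine sc_of_inc i
    (fun a b hab => Subtype.ext (congrArg (fun z : Co0 => (z : Equiv.Perm leechLattice)) hab))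
    (by rw [H49.CoStab.card_co3]; norm_num) ?_
  intro g hg
  have h1 : i g • Spor.leechV = Spor.leechV := g.2.2
  rw [hg] at h1
  have h2 := congrArg (fun u : leechLattice => (u : GolayPt → ℤ) none) h1
  rw [show ((signCo0 allOne : Co0) • Spor.leechV) = -Spor.leechV from Cfsg.Agent.SporadicA.Co1Simple.allOne_smul _] at h2
  have h3 : -((-5 : ℤ)) = -5 := h2
  omega

open Cfsg.Agent.H604.Cop.Conway in
theorem sc_co1 {G : Type*} [Group G] (h : Spor.IsoCo1 G) : SC G := by
  obtain ⟨e⟩ := h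
  have hf := BpSpor.MBigCo.finite_co1
  exact SC.congr e.symm ⟨s23, by rw [orderOf_s23]; norm_num, card_eq orderOf_s23 card_cent_s23⟩

end Cfsg.Agent.H524.SporTool
end

-- part: H524/SporJ1_mg
section
set_option linter.all false
open scoped Cfsg.Agent.FastGrp

-- part: H524/SylArith
section
/-!
# Sylow arithmetic for Sylow subgroups of prime order

* `syl_arith`: in a nonabelian simple group with Sylow `r`-subgroups of order `r`,
  `|S| = |C(x)| e n` with `e ∣ r - 1`, `e ≠ 1`, `n ≡ 1 (mod r)`;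
* `exists_dvd_check`: enumeration.
-/

set_option autoImplicit false
set_option linter.unusedSectionVars false

namespace Cfsg.Agent.H524.SylArith

open Subgroup Cfsg.Agent.H524.DirRed

variable {S : Type*} [Group S] [Finite S]

theorem exists_sylow_eq {r : ℕ} [hr : Fact r.Prime] (hr2 : ¬ r ^ 2 ∣ Nat.card S) {x : S} (hx : orderOf x = r) :
    ∃ P : Sylow r S, (P : Subgroup S) = zpowers x := by
  have hZ : IsPGroup r (zpowers x) := by
    rw [IsPGroup.iff_card]
    exact ⟨1, by rw [Nat.card_zpowers, hx, pow_one]⟩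
  obtain ⟨P, hP⟩ := hZ.exists_le_sylow
  refine ⟨P, ?_⟩
  obtain ⟨k, hk⟩ := IsPGroup.iff_card.1 P.2
  have h2 : k < 2 := by
    by_contra hc
    push Not at hc
    exact hr2 ((pow_dvd_pow r hc).trans (hk ▸ card_subgroup_dvd_card _))
  symm
  apply eq_of_le_of_card_ge hP
  rw [hk, Nat.card_zpowers, hx]
  calc r ^ k ≤ r ^ 1 := Nat.pow_le_pow_right hr.out.pos (by omega)
    _ = r := pow_one r

/-- **Sylow and Burnside.** -/
theorem syl_arith [IsSimpleGroup S] (hna : ¬ ∀ a b : S, a * b = b * a) {r : ℕ} [hr : Fact r.Prime]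
    (hd : r ∣ Nat.card S) (hr2 : ¬ r ^ 2 ∣ Nat.card S) {x : S} (hx : orderOf x = r) :
    ∃ e n : ℕ, e ∣ r - 1 ∧ e ≠ 1 ∧ n % r = 1 ∧ Nat.card S = Nat.card (centralizer ({x} : Set S)) * e * n := by
  obtain ⟨P, hP⟩ := exists_sylow_eq hr2 hx
  set N : Subgroup S := normalizer (((P : Subgroup S)) : Set S) with hN
  set C : Subgroup S := centralizer (((P : Subgroup S)) : Set S) with hC
  have hCx : C = centralizer ({x} : Set S) := by
    rw [hC, hP, zpowers_eq_closure, centralizer_closure]
  have hCN : C ≤ N := centralizer_le_normalizer _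
  have hPc : Nat.card (P : Subgroup S) = r := by rw [hP, Nat.card_zpowers, hx]
  refine ⟨C.relIndex N, Nat.card (Sylow r S), ?_, ?_, ?_, ?_⟩
  · have h1 : C.relIndex N = (P : Subgroup S).normalizerMonoidHom.ker.index := by
      rw [normalizerMonoidHom_ker]
      rfl
    rw [h1, Subgroup.index_ker]
    have hcyc : IsCyclic (P : Subgroup S) := isCyclic_of_prime_card hPc
    have h2 : Nat.card (MulAut (P : Subgroup S)) = r - 1 := by
      rw [IsCyclic.card_mulAut, hPc, Nat.totient_prime hr.out]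
    rw [← h2]
    exact card_subgroup_dvd_card _
  · intro h
    rw [relIndex_eq_one] at h
    exact not_normalizer_le hna hd P h
  · have h1 := card_sylow_modEq_one r S
    rw [Nat.ModEq, Nat.mod_eq_of_lt hr.out.one_lt] at h1
    exact h1
  · have h1 : Nat.card (Sylow r S) = N.index := P.card_eq_index_normalizer
    rw [h1, ← hCx, Subgroup.relIndex]
    have h2 : Nat.card C * (C.subgroupOf N).index = Nat.card N := by
      rw [← Subgroup.card_mul_index (C.subgroupOf N), Nat.card_congr (Subgroup.subgroupOfEquivOfLe hCN).toEquiv]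
    rw [h2, Subgroup.card_mul_index]

/-- The order of the centralizer is `r m`, where `m` is not divisible by `r`. -/
theorem exists_m {r : ℕ} [hr : Fact r.Prime] (hr2 : ¬ r ^ 2 ∣ Nat.card S) {x : S} (hx : orderOf x = r) :
    ∃ m : ℕ, Nat.card (centralizer ({x} : Set S)) = r * m ∧ ¬ r ∣ m := by
  have h1 : r ∣ Nat.card (centralizer ({x} : Set S)) := by
    have h2 : zpowers x ≤ centralizer ({x} : Set S) := by
      rw [zpowers_le]
      exact mem_centralizer_singleton_iff.2 rfl
    rw [← hx, ← Nat.card_zpowers]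
    exact card_dvd_of_le h2
  obtain ⟨m, hm⟩ := h1
  refine ⟨m, hm, fun hd => hr2 ?_⟩
  rw [pow_two]
  exact (Nat.mul_dvd_mul_left r hd).trans (hm ▸ card_subgroup_dvd_card _)

/-- a prime divisor `s` of `|C(x)|`: an element of order `s` commuting with `x` -/
theorem exists_comm {x : S} {s : ℕ} (hs : s.Prime) (hd : s ∣ Nat.card (centralizer ({x} : Set S))) :
    ∃ y : S, orderOf y = s ∧ x * y = y * x := by
  have : Fact s.Prime := ⟨hs⟩
  obtain ⟨y, hy⟩ := exists_prime_orderOf_dvd_card' s hd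
  exact ⟨y, by rw [Subgroup.orderOf_coe, hy], (mem_centralizer_singleton_iff.1 y.2).symm⟩

/-- `s` does not divide `|C(x)|` if the centralizers of the elements of order `s` have order prime to `r`. -/
theorem not_dvd_of {x : S} {r s : ℕ} (hx : orderOf x = r) (hs : s.Prime)
    (h : ∀ y : S, orderOf y = s → ¬ r ∣ Nat.card (centralizer ({y} : Set S))) :
    ¬ s ∣ Nat.card (centralizer ({x} : Set S)) := by
  intro hd
  obtain ⟨y, hy, hxy⟩ := exists_comm hs hd
  apply h y hy
  rw [← hx]
  have h1 : x ∈ centralizer ({y} : Set S) := mem_centralizer_singleton_iff.2 hxy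
  have h2 : orderOf (⟨x, h1⟩ : centralizer ({y} : Set S)) = orderOf x := Subgroup.orderOf_mk _ _
  rw [← h2]
  exact orderOf_dvd_natCard _

end Cfsg.Agent.H524.SylArith
end

-- part: H524/SporJ1
section
/-!
# The first Janko group: elements of order 7 have centralizers of order 7
-/

set_option autoImplicit false

namespace Cfsg.Agent.H524.SporTool

open Subgroup Cfsg Cfsg.Agent.H524.DirRed Cfsg.Agent.H524.SylArith

theorem dvd_of_coprime {m r A B N : ℕ} (hr : 0 < r) (h : r * m ∣ N) (hAB : N = r * (A * B)) (hcop : m.Coprime A) :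
    m ∣ B := by
  rw [hAB] at h
  exact hcop.dvd_of_dvd_mul_left (Nat.dvd_of_mul_dvd_mul_left hr h)

theorem coprime_of_not_dvd {m s k : ℕ} (hs : s.Prime) (h : ¬ s ∣ m) : m.Coprime (s ^ k) :=
  Nat.Coprime.pow_right k (Nat.Coprime.symm ((Nat.Prime.coprime_iff_not_dvd hs).2 h))

theorem card_seven_j1 {G : Type*} [Group G] [Finite G] [IsSimpleGroup G] (hna : ¬ ∀ a b : G, a * b = b * a)
    (h : Nat.card G = 175560) (h2 : ∀ t : G, orderOf t = 2 → Nat.card (centralizer ({t} : Set G)) = 120)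
    (h3 : ∀ t : G, orderOf t = 3 → Nat.card (centralizer ({t} : Set G)) = 30)
    (h5 : ∀ t : G, orderOf t = 5 → Nat.card (centralizer ({t} : Set G)) = 30) {x : G} (hx : orderOf x = 7) :
    Nat.card (centralizer ({x} : Set G)) = 7 := by
  have hp7 : Fact (Nat.Prime 7) := ⟨by norm_num⟩
  obtain ⟨m, hm, -⟩ := exists_m (r := 7) (by rw [h]; norm_num) hx
  obtain ⟨e, n, he, he1, hn, hN⟩ := syl_arith hna (r := 7) (by rw [h]; norm_num) (by rw [h]; norm_num) hx
  have c2 : ¬ 2 ∣ m := fun hd => not_dvd_of hx Nat.prime_two (fun y hy => by rw [h2 y hy]; norm_num)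
    (hm ▸ Dvd.dvd.mul_left hd _)
  have c3 : ¬ 3 ∣ m := fun hd => not_dvd_of hx Nat.prime_three (fun y hy => by rw [h3 y hy]; norm_num)
    (hm ▸ Dvd.dvd.mul_left hd _)
  have c5 : ¬ 5 ∣ m := fun hd => not_dvd_of hx Nat.prime_five (fun y hy => by rw [h5 y hy]; norm_num)
    (hm ▸ Dvd.dvd.mul_left hd _)
  rw [hm, h] at hN
  have h1 : m ∣ 209 := dvd_of_coprime (r := 7) (A := 2 ^ 3 * 3 ^ 1 * 5 ^ 1) (B := 209) (N := 175560) (by norm_num)
    ⟨e * n, by rw [hN]; ring⟩ (by norm_num)
    (Nat.Coprime.mul_right (Nat.Coprime.mul_right (coprime_of_not_dvd Nat.prime_two c2)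
      (coprime_of_not_dvd Nat.prime_three c3)) (coprime_of_not_dvd Nat.prime_five c5))
  have h4 : m ∈ Nat.divisors 209 := Nat.mem_divisors.2 ⟨h1, by norm_num⟩
  have h6 : e ∈ Nat.divisors 6 := Nat.mem_divisors.2 ⟨he, by norm_num⟩
  have h7 : Nat.divisors 209 = {1, 11, 19, 209} := by decide +kernel
  have h8 : Nat.divisors 6 = {1, 2, 3, 6} := by decide +kernel
  rw [h7] at h4
  rw [h8] at h6
  simp only [Finset.mem_insert, Finset.mem_singleton] at h4 h6
  have hn' : n = 7 * (n / 7) + 1 := by omega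
  rcases h4 with rfl | rfl | rfl | rfl
  · exact hm
  all_goals
    exfalso
    rcases h6 with rfl | rfl | rfl | rfl
    all_goals omega

theorem cc_j1 {G : Type*} [Group G] [Finite G] [IsSimpleGroup G] (hna : ¬ ∀ a b : G, a * b = b * a)
    (h : Spor.IsoJ1 G) : ∃ T : Subgroup G, CC T := by
  have hc := NotCT.Orders.j1 h
  obtain ⟨e⟩ := h
  have : Finite Spor.J1 := Finite.of_equiv G e.toEquiv
  have : Fact (Nat.Prime 7) := ⟨by norm_num⟩
  obtain ⟨x, hx⟩ := exists_prime_orderOf_dvd_card' (G := G) 7 (by rw [hc]; norm_num)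
  refine ⟨_, CC.of_card (by norm_num) hx (card_seven_j1 hna hc ?_ ?_ ?_ hx)⟩
  · intro t ht
    rw [← card_centralizer_equiv e]
    exact SporRec.J1.EqTopC.card_cent2 H413.JOneLocal.isLocal _ (by rw [MulEquiv.orderOf_eq, ht])
  · intro t ht
    rw [← card_centralizer_equiv e]
    exact H413.JOneLocal.isLocal.cent3 _ (by rw [MulEquiv.orderOf_eq, ht])
  · intro t ht
    rw [← card_centralizer_equiv e]
    exact H413.JOneLocal.isLocal.cent5 _ (by rw [MulEquiv.orderOf_eq, ht])

end Cfsg.Agent.H524.SporTool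
end

-- part: H524/SporSCB
section
/-!
# Self-centralizing elements of prime order: `J₄`, `He`, `Fi₂₄'`, the Tits group
-/

set_option autoImplicit false

namespace Cfsg.Agent.H524.SporTool

open Subgroup Cfsg Cfsg.Agent.H524.DirRed

theorem sc_j4 {G : Type*} [Group G] [Finite G] (h : Spor.IsoJ4 G) : SC G := by
  have hc := NotCT.Orders.j4 h
  obtain ⟨e⟩ := h
  have hf : Finite Spor.J4 := Finite.of_equiv _ e.toEquiv
  have hc' : Nat.card Spor.J4 = Nat.card G := (Nat.card_congr e.toEquiv).symm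
  refine SC.congr e.symm (SC.of_zpowers (r := 37) (by norm_num) (by rw [hc', hc]; norm_num) fun P hP => ?_)
  exact (H859.BigNum.data37 hP).1

section He

open Subgroup Cfsg Cfsg.Agent.H238 Cfsg.Agent.H828.Tools Cfsg.Agent.H828.KillCP
open Cfsg.Spor.He Cfsg.Agent.SporadicB.HePerm
open Cfsg.Agent.FixBN.HeStab Cfsg.Agent.KFacts.He.Lv Cfsg.Agent.CpAutHe.Cnt

theorem sc_he {G : Type*} [Group G] (h : Spor.IsoHe G) : SC G := by
  obtain ⟨e⟩ := h
  refine SC.congr e.symm ⟨wd H828.KillHe.X, ?_, ?_⟩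
  · rw [H828.KillHe.order17]; norm_num
  · rw [H828.KillHe.cent17, H828.KillHe.order17]

end He

theorem sc_of_dat {S : Type*} [Group S] [Finite S] (h : Lie.IsoTits S) (D : Cfsg.Agent.H87.TitsAbs.Dat S) : SC S := by
  have : Fact (Nat.Prime 13) := ⟨by norm_num⟩
  have hx : orderOf D.x = 13 := orderOf_eq_prime D.x13 D.x1
  exact ⟨D.x, by rw [hx]; norm_num, by rw [H845.CopTits.card_cent_x h D, hx]⟩

theorem sc_tits_aux {X : Type*} [Group X] (K : Subgroup X) {G : Type*} [Group G] (e : Nonempty (G ≃* commutator K))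
    (h : SC (commutator K)) : SC G := by
  obtain ⟨e⟩ := e
  exact h.congr e.symm

theorem sc_titsGroup : SC Cfsg.Lie.TitsGroup := by
  have : Finite Cfsg.Lie.TitsGroup := by
    apply Nat.finite_of_card_ne_zero
    rw [Cfsg.Agent.H87.TitsData.card_tits]
    norm_num
  obtain ⟨D⟩ := Cfsg.Agent.H87.TitsData.dat_tits
  exact sc_of_dat ⟨MulEquiv.refl _⟩ D

theorem sc_tits {G : Type*} [Group G] (h : Lie.IsoTits G) : SC G :=
  sc_tits_aux _ h sc_titsGroup

/-- an element of odd prime order lies in a subgroup of index two -/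
theorem SC.of_index_two {S : Type*} [Group S] [Finite S] {H : Subgroup S} (hH : H.index = 2) {x : S} {r : ℕ}
    (hr : r.Prime) (hr2 : r ≠ 2) (hx : orderOf x = r) (hC : Nat.card (centralizer ({x} : Set S)) = r) : SC H := by
  have hmem : x ∈ H := by
    obtain ⟨k, hk⟩ := hr.odd_of_ne_two hr2
    have h1 : x * x ∈ H := Subgroup.mul_self_mem_of_index_two hH x
    have h2 : x = (x * x) ^ (k + 1) := by
      rw [← pow_two, ← pow_mul, show 2 * (k + 1) = r + 1 by omega, pow_succ, ← hx, pow_orderOf_eq_one, one_mul]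
    rw [h2]
    exact pow_mem h1 _
  refine ⟨⟨x, hmem⟩, by rwa [Subgroup.orderOf_mk, hx], ?_⟩
  rw [Subgroup.orderOf_mk, hx]
  have h1 : Nat.card (centralizer ({(⟨x, hmem⟩ : H)} : Set H)) ∣ r := by
    rw [← hC, ← Subgroup.card_map_of_injective H.subtype_injective]
    apply Subgroup.card_dvd_of_le
    rintro _ ⟨c, hc, rfl⟩
    rw [mem_centralizer_singleton_iff]
    exact congrArg Subtype.val (mem_centralizer_singleton_iff.1 hc)
  have h2 : r ∣ Nat.card (centralizer ({(⟨x, hmem⟩ : H)} : Set H)) := by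
    have h3 : (⟨x, hmem⟩ : H) ∈ centralizer ({(⟨x, hmem⟩ : H)} : Set H) := mem_centralizer_singleton_iff.2 rfl
    have h4 := Subgroup.orderOf_dvd_natCard _ h3
    rwa [Subgroup.orderOf_mk, hx] at h4
  exact Nat.dvd_antisymm h1 h2

theorem sc_fi24 {G : Type*} [Group G] (h : Spor.IsoFi24' G) : SC G := by
  have hF : Finite Spor.Fi24 := R08.FiTwentyFour.finite_Fi24
  obtain ⟨e⟩ := h
  refine SC.congr e.symm ?_
  have hidx : (commutator Spor.Fi24).index = 2 := R08.FiTwentyFour.index_commutator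
  have hC := H843.D29.main.2
  rw [zpowers_eq_closure, centralizer_closure] at hC
  exact SC.of_index_two hidx (by norm_num) (by norm_num) H843.D29.order hC

end Cfsg.Agent.H524.SporTool
end
end

-- part: H524/SporM_mg
section
set_option linter.all false
open scoped Cfsg.Agent.FastGrp

-- part: H524/SporM
section
/-!
# The Mathieu groups: `PrimB`, `RegB`
-/

set_option autoImplicit false

namespace Cfsg.Agent.H524.SporTool

open Subgroup Cfsg Cfsg.Agent.H524.DirRed

variable {G : Type*} [Group G] [Finite G] [IsSimpleGroup G]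

theorem both_of_cc (hna : ¬ ∀ a b : G, a * b = b * a) (h : ∃ T : Subgroup G, CC T) : Both G := by
  obtain ⟨T, hT⟩ := h
  exact ⟨fun p hp hd => hT.primB hna hp hd, fun p q hp hq _ hd => hT.regB hna hp hq hd⟩

theorem cc_m11 (h : Spor.IsoM11 G) : ∃ T : Subgroup G, CC T := by
  have hc := NotCT.Orders.m11 h
  have : Fact (Nat.Prime 11) := ⟨by norm_num⟩
  obtain ⟨x, hx⟩ := exists_prime_orderOf_dvd_card' (G := G) 11 (by rw [hc]; norm_num)
  exact ⟨_, CC.of_card (by norm_num) hx
    (SporadicA.M11Sylow.card_centralizer_eleven (⟨inferInstance, hc⟩ : IsM11 G) hx)⟩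

theorem cc_m12 (h : Spor.IsoM12 G) : ∃ T : Subgroup G, CC T := by
  have hc := NotCT.Orders.m12 h
  have : Fact (Nat.Prime 11) := ⟨by norm_num⟩
  exact CC.of_sylow (r := 11) (by rw [hc]; norm_num) (by rw [hc]; norm_num)
    (fun P => MTwelve.SylowEleven.centralizer_sylow11 hc P)

theorem cc_m22 (h : Spor.IsoM22 G) : ∃ T : Subgroup G, CC T := by
  have hc := NotCT.Orders.m22 h
  have : Fact (Nat.Prime 11) := ⟨by norm_num⟩
  exact CC.of_sylow (r := 11) (by rw [hc]; norm_num) (by rw [hc]; norm_num)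
    (fun P => (M22.Sylow11.sylow_eleven hc P).1)

theorem cc_m23 (h : Spor.IsoM23 G) : ∃ T : Subgroup G, CC T := by
  have hc := NotCT.Orders.m23 h
  have : Fact (Nat.Prime 23) := ⟨by norm_num⟩
  exact CC.of_sylow (r := 23) (by rw [hc]; norm_num) (by rw [hc]; norm_num)
    (fun P => M23.Sylow23.centralizer_eq hc P)

theorem cc_m24 (h : Spor.IsoM24 G) : ∃ T : Subgroup G, CC T := by
  have hc := NotCT.Orders.m24 h
  have : Fact (Nat.Prime 23) := ⟨by norm_num⟩
  exact CC.of_sylow (r := 23) (by rw [hc]; norm_num) (by rw [hc]; norm_num)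
    (fun P => SporadicA.M24.Sylow23.centralizer_eq hc P)

end Cfsg.Agent.H524.SporTool
end

-- part: H524/SporSCC
section
/-!
# Self-centralizing elements of prime order: `J₃`, `Fi₂₂`, `Fi₂₃`
-/

set_option autoImplicit false

namespace Cfsg.Agent.H524.SporTool

open Subgroup Cfsg Cfsg.Agent.H524.DirRed

theorem sc_j3 {G : Type*} [Group G] (h : Spor.IsoJ3 G) : SC G := by
  obtain ⟨-, hc, -⟩ := H898.J3Cent.base h
  have : Finite G := Nat.finite_of_card_ne_zero (by rw [hc]; norm_num)
  exact SC.of_card (r := 19) (by norm_num) (by rw [hc]; norm_num) fun x hx => H898.J3Cent.card_nineteen h hx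

theorem sc_fi22 {G : Type*} [Group G] (h : Spor.IsoFi22 G) : SC G := by
  obtain ⟨e⟩ := h
  have I := H836.inv_of_iso e
  have hfin : Finite G := I.ctx.finite
  have hc := I.ctx.card
  refine SC.of_zpowers (r := 13) (by norm_num) (by rw [hc]; norm_num) fun P hP => ?_
  obtain ⟨-, h2⟩ := (H836.Main.thirteen_concl e).2 P hP
  rw [h2, hP]

theorem sc_fi23 {G : Type*} [Group G] [Finite G] (h : Spor.IsoFi23 G) : SC G := by
  have hc := NotCT.Orders.fi23 h
  obtain ⟨e⟩ := h
  refine SC.of_zpowers (r := 23) (by norm_num) (by rw [hc]; norm_num) fun P hP => ?_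
  obtain ⟨-, h2⟩ := H839.Fi23.SC.map_all e.symm H839.Fi23.twentythree_main P hP
  rw [h2, hP]

end Cfsg.Agent.H524.SporTool
end
end

-- part: H524/RegSpor
section
set_option linter.all false
open scoped Cfsg.Agent.FastGrp

/-!
# `RegAll` for the sporadic groups with a self-centralizing element of prime order, including `HS`, `McL`
-/

set_option autoImplicit false

namespace Cfsg.Agent.H524.RegSpor

open Subgroup Cfsg Cfsg.Agent.H524.DirRed Cfsg.Agent.H524.SporTool Cfsg.Agent.H524.RegTool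

universe u

theorem sc_hs {G : Type*} [Group G] [Finite G] [IsSimpleGroup G] (h : Spor.IsoHS G) : SC G := by
  have hc := NotCT.Orders.hs h
  refine SC.of_card (r := 11) (by norm_num) (by rw [hc]; norm_num) fun x hx => ?_
  exact H547.SelfCent.McLHS.hs h (H393.Iso.na_hs h) hc hx

theorem sc_mcl {G : Type*} [Group G] [Finite G] [IsSimpleGroup G] (h : Spor.IsoMcL G) : SC G := by
  have hc := NotCT.Orders.mcl h
  refine SC.of_card (r := 11) (by norm_num) (by rw [hc]; norm_num) fun x hx => ?_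
  exact H547.SelfCent.McLHS.mcl h (H393.Iso.na_mcl h) hc hx

/-- **The sporadic groups with an abelian CC-subgroup.** -/
theorem cc_spor {S : Type u} [Group S] [Finite S] [IsSimpleGroup S] (hna : ¬ ∀ a b : S, a * b = b * a)
    (h : IsSporadicGroup S) (hon : ¬ Spor.IsoON S) (hly : ¬ Spor.IsoLy S) (hhn : ¬ Spor.IsoHN S) (hth : ¬ Spor.IsoTh S)
    (hb : ¬ Spor.IsoB S) (hm : ¬ Spor.IsoM S) : ∃ T : Subgroup S, CC T := by
  rcases h with h | h | h | h | h | h | h | h | h | h | h | h | h | h | h | h | h | h | h | h | h | h | h | h | h | h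
  · exact cc_m11 h
  · exact cc_m12 h
  · exact cc_m22 h
  · exact cc_m23 h
  · exact cc_m24 h
  · exact cc_j1 hna h
  · exact (sc_j2 h).exists_cc
  · exact (sc_j3 h).exists_cc
  · exact (sc_j4 h).exists_cc
  · exact (sc_co1 h).exists_cc
  · exact (sc_co2 h).exists_cc
  · exact (sc_co3 h).exists_cc
  · exact (sc_mcl h).exists_cc
  · exact (sc_hs h).exists_cc
  · exact (sc_suz h).exists_cc
  · exact (sc_he h).exists_cc
  · exact (sc_ru h).exists_cc
  · exact absurd h hon
  · exact absurd h hly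
  · exact (sc_fi22 h).exists_cc
  · exact (sc_fi23 h).exists_cc
  · exact (sc_fi24 h).exists_cc
  · exact absurd h hhn
  · exact absurd h hth
  · exact absurd h hb
  · exact absurd h hm

/-- `RegAll` for the sporadic groups, modulo six of them. -/
theorem regAll_spor {S : Type u} [Group S] [Finite S] [IsSimpleGroup S] (hna : ¬ ∀ a b : S, a * b = b * a)
    (h : IsSporadicGroup S) (hon : Spor.IsoON S → RegAll S) (hly : Spor.IsoLy S → RegAll S)
    (hhn : Spor.IsoHN S → RegAll S) (hth : Spor.IsoTh S → RegAll S) (hb : Spor.IsoB S → RegAll S)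
    (hm : Spor.IsoM S → RegAll S) : RegAll S := by
  by_cases h1 : Spor.IsoON S
  · exact hon h1
  by_cases h2 : Spor.IsoLy S
  · exact hly h2
  by_cases h3 : Spor.IsoHN S
  · exact hhn h3
  by_cases h4 : Spor.IsoTh S
  · exact hth h4
  by_cases h5 : Spor.IsoB S
  · exact hb h5
  by_cases h6 : Spor.IsoM S
  · exact hm h6
  exact (both_of_cc hna (cc_spor hna h h1 h2 h3 h4 h5 h6)).2

end Cfsg.Agent.H524.RegSpor
end
end
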