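import Mathlib
import Cfsg.Agent.MonsterU.Chart
import Cfsg.Agent.H729.PairCo2
import Cfsg.Agent.LThreeBX.NoSeven
import Cfsg.Agent.MonsterU.Fused
import Cfsg.Agent.H524.SporPrim
import Cfsg.Agent.H547.PP.FarBaby
import Cfsg.Agent.LThreeMB.KPair
import Cfsg.Agent.H603.SporElim
import Cfsg.Agent.FastGrp
import Cfsg.Agent.Prune
set_option linter.all false
prune_inst 0x7ffffffbfffcfddfffff7e7ffffddffdfffdffffefdffdfbfffdffff3fffebefeff5fba7efe7dbfebed6e23c98f87b53fffffeffe36ffc7ffffdfff47fffffdfffffbd3d71ffbfbedfff6ffffbf97fae7f3fffffffffffffffffffffffffffffffffffffffff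
open scoped Cfsg.Agent.FastGrp

-- part: H524/LargeEight
section
/-!
# Elements of order eight with a given central fourth power

`Q` extraspecial with centre `⟨z⟩`, `c` normalizes `Q`, `c ^ 2 ∈ Q`, and some `a ∈ Q` does not commute with
`c a c⁻¹`: then `c ^ 4 = z` or `(a c) ^ 4 = z`.
-/

set_option autoImplicit false

namespace Cfsg.Agent.H524.LargeEight

open Cfsg.Agent.Co2Type.Quad Cfsg.Agent.MonsterU Cfsg.Spor
open Cfsg.Agent.MonsterU.Lam2 Cfsg.Agent.MonsterU.Ch

variable {G : Type*} [Group G] {Q : Subgroup G} {z : G}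

theorem exists_fourth (h : Large Q z) {c a : G} (hcz : c * z = z * c) (hcc : c * c ∈ Q) (ha : a ∈ Q)
    (hne : a * (c * a * c⁻¹) ≠ (c * a * c⁻¹) * a) : c ^ 4 = z ∨ (a * c) ^ 4 = z := by
  have hzz : z * z = 1 := h.z_sq
  have hQ := h.conj_mem c hcz
  obtain ⟨b, hb⟩ : ∃ b : G, b = c * a * c⁻¹ := ⟨_, rfl⟩
  obtain ⟨w, hw⟩ : ∃ w : G, w = c * c := ⟨_, rfl⟩
  rw [← hb] at hne
  rw [← hw] at hcc
  have hbQ : b ∈ Q := hb ▸ hQ a ha
  have hzc : z * c⁻¹ = c⁻¹ * z := (Commute.inv_left (show Commute c z from hcz)).eq.symm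
  rcases h.sq w hcc with h1 | h1
  · right
    have hab : a * b = b * a * z := (h.comm a ha b hbQ).resolve_left hne
    have hcb : c * a = b * c := by rw [hb]; group
    have hww : c * c = w := hw.symm
    have e1 : (a * c) * (a * c) = a * b * w := by
      calc (a * c) * (a * c) = a * (c * a) * c := by group
        _ = a * b * (c * c) := by rw [hcb]; group
        _ = a * b * w := by rw [hww]
    have haz := h.comm_z a ha
    have hbz := h.comm_z b hbQ
    have haa : (a * a) * (a * a) = 1 := by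
      rcases h.sq a ha with h2 | h2 <;> rw [h2]
      · rw [one_mul]
      · exact hzz
    have hbb : b * b = a * a := by
      have h3 : b * b = c * (a * a) * c⁻¹ := by rw [hb]; group
      rw [h3]
      rcases h.sq a ha with h2 | h2 <;> rw [h2]
      · group
      · rw [hcz]; group
    -- `w` commutes with `a b`
    have hwab : w * (a * b) = (a * b) * w := by
      have hwc : c * w * c⁻¹ = w := by rw [hw]; group
      rcases h.comm w hcc a ha with h2 | h2
      · have h3 : w * b = b * w := by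
          calc w * b = (c * w * c⁻¹) * (c * a * c⁻¹) := by rw [hwc, hb]
            _ = c * (w * a) * c⁻¹ := by group
            _ = (c * a * c⁻¹) * (c * w * c⁻¹) := by rw [h2]; group
            _ = b * w := by rw [hwc, hb]
        calc w * (a * b) = (w * a) * b := by group
          _ = a * (w * b) := by rw [h2]; group
          _ = (a * b) * w := by rw [h3]; group
      · have h3 : w * b = b * w * z := by
          calc w * b = (c * w * c⁻¹) * (c * a * c⁻¹) := by rw [hwc, hb]
            _ = c * (w * a) * c⁻¹ := by group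
            _ = c * (a * w * z) * c⁻¹ := by rw [h2]
            _ = c * (a * w) * (z * c⁻¹) := by group
            _ = c * (a * w) * (c⁻¹ * z) := by rw [hzc]
            _ = (c * a * c⁻¹) * (c * w * c⁻¹) * z := by group
            _ = b * w * z := by rw [hwc, hb]
        have hwz := h.comm_z w hcc
        calc w * (a * b) = (w * a) * b := by group
          _ = a * w * z * b := by rw [h2]
          _ = a * w * (z * b) := by group
          _ = a * w * (b * z) := by rw [hbz]
          _ = a * (w * b) * z := by group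
          _ = a * (b * w * z) * z := by rw [h3]
          _ = a * b * w * (z * z) := by group
          _ = (a * b) * w := by rw [hzz, mul_one]
    calc (a * c) ^ 4 = ((a * c) * (a * c)) * ((a * c) * (a * c)) := by
          simp only [pow_succ, pow_zero, one_mul, mul_assoc]
      _ = (a * b * w) * (a * b * w) := by rw [e1]
      _ = (a * b) * (w * (a * b)) * w := by group
      _ = (a * b) * (a * b) * (w * w) := by rw [hwab]; group
      _ = (a * b) * (a * b) := by rw [h1, mul_one]
      _ = (b * a * z) * (a * b) := by rw [← hab]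
      _ = b * a * (z * (a * b)) := by group
      _ = b * a * ((a * b) * z) := by
        have hzab : z * (a * b) = (a * b) * z := by
          calc z * (a * b) = (z * a) * b := by group
            _ = a * (z * b) := by rw [← haz]; group
            _ = (a * b) * z := by rw [← hbz]; group
        rw [hzab]
      _ = b * (a * a) * b * z := by group
      _ = z := by
        rw [← hbb]
        have h4 : b * (b * b) * b = 1 := by
          calc b * (b * b) * b = (b * b) * (b * b) := by group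
            _ = 1 := by rw [hbb, haa]
        rw [h4, one_mul]
  · left
    calc c ^ 4 = (c * c) * (c * c) := by simp only [pow_succ, pow_zero, one_mul, mul_assoc]
      _ = w * w := by rw [hw]
      _ = z := h1

variable {eta : G → L2} {pi : Subgroup.centralizer ({z} : Set G) →* Co1}

/-- an element of order eight over an involution of `Co₁` -/
theorem exists_over (h : Chart Q z eta pi) {g0 : Co1} (hg : g0 * g0 = 1) {v : L2} (hv : bf v (g0 • v) = 1) :
    ∃ y : Subgroup.centralizer ({z} : Set G), (y : G) ^ 4 = z ∧ pi y = g0 := by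
  obtain ⟨c, hc⟩ := h.pi_surj g0
  obtain ⟨a, ha, hav⟩ := h.eta_surj v
  have hcz : (c : G) * z = z * c := Subgroup.mem_centralizer_singleton_iff.1 c.2
  have hcc : (c : G) * c ∈ Q := by
    have h1 : pi (c * c) = 1 := by rw [map_mul, hc, hg]
    exact (h.pi_eq_one (c * c)).1 h1
  have haz : a ∈ Subgroup.centralizer ({z} : Set G) :=
    Subgroup.mem_centralizer_singleton_iff.2 (h.large.comm_z a ha)
  have hne : a * ((c : G) * a * (c : G)⁻¹) ≠ ((c : G) * a * (c : G)⁻¹) * a := by
    intro h1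
    have h2 := (h.comm_iff ha (h.large.conj_mem c hcz a ha)).1 h1
    rw [h.eta_conj c a ha, hc, hav, hv] at h2
    exact one_ne_zero h2
  have hpa : pi ⟨a, haz⟩ = 1 := (h.pi_eq_one ⟨a, haz⟩).2 ha
  rcases exists_fourth h.large hcz hcc ha hne with h1 | h1
  · exact ⟨c, h1, hc⟩
  · exact ⟨⟨a, haz⟩ * c, h1, by rw [map_mul, hpa, one_mul, hc]⟩

/-- the same inside the centralizer of an element `t` of `Q` -/
theorem exists_over' (h : Chart Q z eta pi) {g0 : Co1} (hg : g0 * g0 = 1) {v : L2} (hv : bf v (g0 • v) = 1) {t : G}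
    (ht : t ∈ Q) (ht1 : t ≠ 1) (htz : t ≠ z) (hgt : g0 • eta t = eta t) (hvt : bf v (eta t) = 0) :
    ∃ y : Subgroup.centralizer ({z} : Set G), (y : G) ^ 4 = z ∧ pi y = g0 ∧ (y : G) * t = t * y := by
  have hQc : ∀ a ∈ Q, a ∈ Subgroup.centralizer ({z} : Set G) := fun a ha =>
    Subgroup.mem_centralizer_singleton_iff.2 (h.large.comm_z a ha)
  -- a lift of `g0` commuting with `t`
  obtain ⟨c, hc, hct⟩ : ∃ c : Subgroup.centralizer ({z} : Set G), pi c = g0 ∧ (c : G) * t = t * c := by
    obtain ⟨c, hc⟩ := h.pi_surj g0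
    have hcz : (c : G) * z = z * c := Subgroup.mem_centralizer_singleton_iff.1 c.2
    have h1 : eta ((c : G) * t * (c : G)⁻¹) = eta t := by rw [h.eta_conj c t ht, hc, hgt]
    rcases (h.eta_eq (h.large.conj_mem c hcz t ht) ht).1 h1 with h2 | h2
    · exact ⟨c, hc, by rw [mul_inv_eq_iff_eq_mul] at h2; exact h2⟩
    · obtain ⟨b, hb, hbt⟩ : ∃ b ∈ Q, b * t ≠ t * b := by
        by_contra hcon
        push Not at hcon
        rcases h.large.cent t ht (fun y hy => (hcon y hy).symm) with h3 | h3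
        · exact ht1 h3
        · exact htz h3
      refine ⟨⟨b, hQc b hb⟩ * c, ?_, ?_⟩
      · rw [map_mul, (h.pi_eq_one ⟨b, hQc b hb⟩).2 hb, one_mul, hc]
      · have h3 : b * t = t * b * z := (h.large.comm b hb t ht).resolve_left hbt
        have h4 : (c : G) * t = t * z * c := by rw [mul_inv_eq_iff_eq_mul] at h2; exact h2
        show b * (c : G) * t = t * (b * (c : G))
        calc b * (c : G) * t = b * ((c : G) * t) := by group
          _ = b * (t * z * c) := by rw [h4]
          _ = (b * t) * (z * c) := by group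
          _ = (t * b * z) * (z * c) := by rw [h3]
          _ = t * b * (z * z) * c := by group
          _ = t * (b * (c : G)) := by rw [h.large.z_sq]; group
  obtain ⟨a, ha, hav⟩ := h.eta_surj v
  have hcz : (c : G) * z = z * c := Subgroup.mem_centralizer_singleton_iff.1 c.2
  have hcc : (c : G) * c ∈ Q := by
    have h1 : pi (c * c) = 1 := by rw [map_mul, hc, hg]
    exact (h.pi_eq_one (c * c)).1 h1
  have hat : a * t = t * a := (h.comm_iff ha ht).2 (by rw [hav, hvt])
  have hne : a * ((c : G) * a * (c : G)⁻¹) ≠ ((c : G) * a * (c : G)⁻¹) * a := by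
    intro h1
    have h2 := (h.comm_iff ha (h.large.conj_mem c hcz a ha)).1 h1
    rw [h.eta_conj c a ha, hc, hav, hv] at h2
    exact one_ne_zero h2
  rcases exists_fourth h.large hcz hcc ha hne with h1 | h1
  · exact ⟨c, h1, hc, hct⟩
  · refine ⟨⟨a, hQc a ha⟩ * c, h1, by rw [map_mul, (h.pi_eq_one ⟨a, hQc a ha⟩).2 ha, one_mul, hc], ?_⟩
    show a * (c : G) * t = t * (a * (c : G))
    rw [mul_assoc, hct, ← mul_assoc, hat, mul_assoc]

/-- an element of odd prime order commuting with `y`, `y ^ 4 = z` -/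
theorem order_pi (h : Chart Q z eta pi) {r : ℕ} (hr : r.Prime) (hr2 : r ≠ 2) {y : Subgroup.centralizer ({z} : Set G)}
    (hy : (y : G) ^ 4 = z) {x : G} (hx : orderOf x = r) (hxy : x * y = y * x) :
    ∃ x' : Subgroup.centralizer ({z} : Set G), (x' : G) = x ∧ orderOf (pi x') = r ∧ pi x' * pi y = pi y * pi x' := by
  have hc : Commute x (y : G) := hxy
  have hxz : x ∈ Subgroup.centralizer ({z} : Set G) := by
    rw [Subgroup.mem_centralizer_singleton_iff, ← hy]
    exact hc.pow_right 4
  refine ⟨⟨x, hxz⟩, rfl, ?_, ?_⟩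
  · have : Fact r.Prime := ⟨hr⟩
    refine orderOf_eq_prime ?_ ?_
    · rw [← map_pow]
      have h1 : (⟨x, hxz⟩ : Subgroup.centralizer ({z} : Set G)) ^ r = 1 :=
        Subtype.ext (by rw [Subgroup.coe_pow, Subgroup.coe_one, ← hx, pow_orderOf_eq_one])
      rw [h1, map_one]
    · intro h1
      have h2 : x ∈ Q := (h.pi_eq_one _).1 h1
      have h3 : x ^ 4 = 1 := by
        have h0 : x ^ 4 = (x * x) * (x * x) := by simp only [pow_succ, pow_zero, one_mul, mul_assoc]
        rcases h.large.sq x h2 with h4 | h4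
        · rw [h0, h4, one_mul]
        · rw [h0, h4, h.large.z_sq]
      have h5 : r ∣ 2 ^ 2 := by
        rw [← hx]
        exact orderOf_dvd_of_pow_eq_one h3
      exact hr2 ((Nat.prime_dvd_prime_iff_eq hr Nat.prime_two).1 (hr.dvd_of_dvd_pow h5))
  · rw [← map_mul, ← map_mul]
    exact congrArg pi (Subtype.ext hxy)

end Cfsg.Agent.H524.LargeEight
end

-- part: H524/CoKey
section
/-!
# Elements of odd order of `Co₀` commuting with the sign change on a dodecad

`dq` a dodecad missing the points `∞`, `0`: no element of prime order `p = 7` or `p ≥ 11` of `Co₀` fixing the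
minimal vector `(4, 4, 0, …)` commutes with the sign change on `dq`.
-/

set_option autoImplicit false

namespace Cfsg.Agent.H524.CoKey

open Cfsg Cfsg.Agent.MonsterU.Lam2 Cfsg.Agent.MonsterU.Ch
open Cfsg.Agent.SporadicA.GolayBase Cfsg.Agent.SporadicA.GolayPerm
open Cfsg.Agent.SporadicA.Co0Mono hiding mk mk_smul
open Cfsg.Agent.SporadicA.Co1Simple Cfsg.Agent.Co2Type.Mono
open Cfsg.Agent.SporadicStructure.M24El
open Cfsg.Agent.CoOneType.SignFacts Cfsg.Agent.CoOneType.ClosingFacts

theorem qr_mem (t : ZMod 23) : qrWord t ∈ golayCode :=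
  Submodule.subset_span (Or.inl ⟨t, rfl⟩)

/-- a dodecad -/
def dq : golayCode := ⟨qrWord 1, qr_mem 1⟩

/-- a dodecad -/
def cq : golayCode := ⟨qrWord 0, qr_mem 0⟩

theorem wt_dq : wt dq = 12 := by
  show (support₂ (qrWord 1)).card = 12
  decide +kernel

/-- a permutation of prime order at least 11 fixing two points outside an invariant dodecad -/
theorem perm_eq_one_of {p : ℕ} (hp : p.Prime) (h11 : 11 ≤ p) {σ : M24} (hσ : σ ^ p = 1)
    (h : wordPerm σ dq = dq) (h0 : (σ : Equiv.Perm GolayPt) none = none)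
    (h1 : (σ : Equiv.Perm GolayPt) (some 0) = some 0) : σ = 1 := by
  classical
  have hp' : (σ : Equiv.Perm GolayPt) ^ p = 1 := by
    rw [← Subgroup.coe_pow, hσ, Subgroup.coe_one]
  have hd : ∀ i, (dq : GolayPt → ZMod 2) ((σ : Equiv.Perm GolayPt) i) = (dq : GolayPt → ZMod 2) i := by
    intro i
    have h1 : ((wordPerm σ dq : golayCode) : GolayPt → ZMod 2) ((σ : Equiv.Perm GolayPt) i) =
        (dq : GolayPt → ZMod 2) i := by
      rw [wordPerm_apply, Equiv.symm_apply_apply]
    rwa [h] at h1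
  let S : Finset GolayPt := Finset.univ.filter fun i => qrWord 1 i = 0 ∧ i ≠ none ∧ i ≠ some 0
  have hcard : S.card = 10 := by decide +kernel
  have hS : ∀ i ∈ S, (σ : Equiv.Perm GolayPt) i ∈ S := by
    intro i hi
    rw [Finset.mem_filter] at hi ⊢
    obtain ⟨-, e1, e2, e3⟩ := hi
    refine ⟨Finset.mem_univ _, (hd i).trans e1, ?_, ?_⟩
    · intro e
      exact e2 ((σ : Equiv.Perm GolayPt).injective (e.trans h0.symm))
    · intro e
      exact e3 ((σ : Equiv.Perm GolayPt).injective (e.trans h1.symm))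
  have hfix := Cfsg.Agent.H729.PairCo1.fixed_of_lt hp hp' S hS (by rw [hcard]; omega)
  obtain ⟨s, hs, hs5⟩ := Finset.exists_subset_card_eq (s := S) (n := 5) (by rw [hcard]; norm_num)
  have hfix5 := Cfsg.Agent.J4Type.InvFix.card_fix_five hs5
  have hmemf : σ ∈ fixingSubgroup M24 (s : Set GolayPt) := by
    rw [mem_fixingSubgroup_iff]
    intro y hy
    exact hfix y (hs (Finset.mem_coe.1 hy))
  have hd1 := Subgroup.orderOf_dvd_natCard _ hmemf
  rw [hfix5] at hd1
  have hd2 : orderOf σ ∣ p := orderOf_dvd_of_pow_eq_one hσ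
  rcases (Nat.dvd_prime hp).1 hd2 with h3 | h3
  · exact orderOf_eq_one_iff.1 h3
  · exfalso
    rw [h3] at hd1
    have h4 : p ∣ (2 * 3) ^ 4 := hd1.trans (by norm_num)
    have h5 := hp.dvd_of_dvd_pow h4
    have h6 := Nat.le_of_dvd (by norm_num) h5
    omega

theorem lB_apply (i : GolayPt) : (lB : GolayPt → ℤ) i = if i = none ∨ i = some 0 then 4 else 0 := rfl

/-- the key fact in `Co₀` -/
theorem co0_key {p : ℕ} (hp : p.Prime) (h7 : p = 7 ∨ 11 ≤ p) (g : Co0) (hk : g * signCo0 dq = signCo0 dq * g)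
    (hv : g • lB = lB) (hgp : g ^ p = 1) : g = 1 := by
  rcases h7 with rfl | h11
  · exact Cfsg.Agent.H729.PairCo2.not_orderOf wt_dq g hk hgp
  have hN : g ∈ N := mem_N_of_conj_dodecad _ _ wt_dq wt_dq g hk
  obtain ⟨c, σ, rfl⟩ := exists_sign_perm hN
  obtain ⟨e, he⟩ := sign_perm_pow c σ p
  have hσ : σ ^ p = 1 := by
    have h0 := hgp
    rw [he] at h0
    exact perm_eq_one h0
  have hcomm : ∀ u v : golayCode, signCo0 u * signCo0 v = signCo0 v * signCo0 u := fun u v => by
    rw [← signCo0_add, ← signCo0_add, add_comm]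
  have hconj : signCo0 (wordPerm σ dq) = signCo0 dq := by
    have e1 : signCo0 c * permCo0 σ * signCo0 dq = signCo0 (wordPerm σ dq) * (signCo0 c * permCo0 σ) := by
      rw [mul_assoc, perm_mul_sign, ← mul_assoc, hcomm c, mul_assoc]
    rw [e1] at hk
    exact mul_right_cancel hk
  have hw : wordPerm σ dq = dq := by
    rcases (Cfsg.Agent.CoOneType.CoOneE.pr_sign_eq_iff dq (wordPerm σ dq)).1 (by rw [hconj]) with h | h
    · exact h
    · exfalso
      rw [h, signCo0_add] at hconj
      have h1 : signCo0 allOne = 1 := by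
        have := congrArg (fun z => signCo0 dq * z) hconj
        simp only [← mul_assoc, signCo0_mul_self, one_mul] at this
        exact this
      exact Cfsg.Agent.CoOneType.CoOneE.allOne_ne h1
  -- the support of the vector
  have hsupp : ∀ i, (i = none ∨ i = some 0) → ((σ : Equiv.Perm GolayPt) i = none ∨ (σ : Equiv.Perm GolayPt) i = some 0) := by
    intro i hi
    have h1 := congrArg (fun u : leechLattice => (u : GolayPt → ℤ) ((σ : Equiv.Perm GolayPt) i)) hv
    simp only [mul_smul, signCo0_smul, signMap_apply, permCo0_smul, permMap_apply, Equiv.symm_apply_apply,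
      lB_apply] at h1
    rw [if_pos hi] at h1
    by_contra hcon
    rw [if_neg hcon] at h1
    unfold sgn at h1
    split_ifs at h1 <;> omega
  have hp' : (σ : Equiv.Perm GolayPt) ^ p = 1 := by
    rw [← Subgroup.coe_pow, hσ, Subgroup.coe_one]
  have hf := Cfsg.Agent.H729.PairCo1.fixed_of_lt hp hp' {none, some 0} (by
    intro i hi
    rw [Finset.mem_insert, Finset.mem_singleton] at hi ⊢
    exact hsupp i hi) (by
    refine lt_of_le_of_lt (Finset.card_insert_le _ _) ?_
    rw [Finset.card_singleton]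
    omega)
  have hσ1 : σ = 1 := perm_eq_one_of hp h11 hσ hw (hf none (by simp)) (hf (some 0) (by simp))
  rw [hσ1, map_one, mul_one] at hgp ⊢
  obtain ⟨k, hk⟩ := hp.odd_of_ne_two (by omega : p ≠ 2)
  have h1 : signCo0 c ^ p = signCo0 c := by
    rw [hk, pow_succ, pow_mul, pow_two, signCo0_mul_self, one_pow, one_mul]
  rw [← h1, hgp]


theorem sq_lB : sqNorm (lB : GolayPt → ℤ) = 32 := by
  show sqNorm vB = 32
  decide +kernel

theorem isType_lB : IsType 2 (cl lB) := ⟨lB, by rw [sq_lB]; norm_num, rfl⟩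

/-- the key fact in `Co₁` -/
theorem co1_key {p : ℕ} (hp : p.Prime) (h7 : p = 7 ∨ 11 ≤ p) {x : Spor.Co1} (hx : orderOf x = p)
    (hk : x * mk (signCo0 dq) = mk (signCo0 dq) * x) (hv : x • cl lB = cl lB) : False := by
  have hodd : Odd p := hp.odd_of_ne_two (by omega)
  obtain ⟨h, hh, hhp⟩ : ∃ h : Co0, mk h = x ∧ h ^ p = 1 := by
    obtain ⟨h, rfl⟩ := exists_mk x
    have h1 : mk (h ^ p) = mk 1 := by
      have : mk (h ^ p) = (mk h) ^ p := rfl
      rw [this, ← hx, pow_orderOf_eq_one]
      rfl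
    rcases (mk_eq _ _).1 h1 with h2 | h2
    · exact ⟨h, rfl, h2⟩
    · refine ⟨h * signCo0 allOne, (mk_eq _ _).2 (Or.inr rfl), ?_⟩
      · rw [LThreeBX.NoSeven.mul_n_pow hodd, h2, one_mul, LThreeBX.NoSeven.nn]
  have hcomm := LThreeBX.NoSeven.comm_of_mk (b := signCo0 dq) hodd hhp (by rw [hh]; exact hk)
  have hfix : h • lB = lB := by
    have h1 : cl (h • lB) = cl lB := by
      rw [← smul_cl, ← mk_smul]
      show mk h • cl lB = cl lB
      rw [hh, hv]
    rcases Cfsg.Agent.MonsterU.Fused.eq_or_neg (by rw [Cfsg.Agent.Leech.FrameAux.co0_sqNorm, sq_lB]) sq_lB h1 with h2 | h2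
    · exact h2
    · exfalso
      have h3 : (h * signCo0 allOne) • lB = lB := by
        rw [mul_smul, allOne_smul, Cfsg.Agent.MonsterU.SmallComm.smul_neg', h2, neg_neg]
      have h4 : (h * signCo0 allOne) ^ p • lB = lB := by
        have : ∀ n : ℕ, (h * signCo0 allOne) ^ n • lB = lB := by
          intro n
          induction n with
          | zero => rw [pow_zero, one_smul]
          | succ n ih => rw [pow_succ, mul_smul, h3, ih]
        exact this p
      rw [LThreeBX.NoSeven.mul_n_pow hodd, hhp, one_mul, allOne_smul] at h4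
      have h5 := congrArg (fun u : leechLattice => (u : GolayPt → ℤ) none) h4
      have h6 : -((4 : ℤ)) = 4 := h5
      omega
  have h1 : h = 1 := co0_key hp h7 h hcomm hfix hhp
  rw [h1] at hh
  have h2 : x = 1 := hh.symm.trans rfl
  rw [h2, orderOf_one] at hx
  exact hp.one_lt.ne hx

/-- the vector of type 2 is arbitrary -/
theorem exists_co1 {v₀ : L2} (h : IsType 2 v₀) : ∃ (g0 : Spor.Co1) (v : L2), g0 * g0 = 1 ∧ bf v (g0 • v) = 1 ∧
    g0 • v₀ = v₀ ∧ bf v v₀ = 0 ∧
      ∀ p : ℕ, p.Prime → (p = 7 ∨ 11 ≤ p) → ∀ x : Spor.Co1, orderOf x = p → x * g0 = g0 * x → x • v₀ ≠ v₀ := by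
  obtain ⟨g, rfl⟩ := IsType.trans (Or.inl rfl) isType_lB h
  have hsq : mk (signCo0 dq) * mk (signCo0 dq) = 1 := by
    rw [← mk_mul, signCo0_mul_self]
    rfl
  refine ⟨mk g * mk (signCo0 dq) * (mk g)⁻¹, g • cl (signCo0 cq • lA), ?_, ?_, ?_, ?_, ?_⟩
  · calc mk g * mk (signCo0 dq) * (mk g)⁻¹ * (mk g * mk (signCo0 dq) * (mk g)⁻¹)
        = mk g * (mk (signCo0 dq) * mk (signCo0 dq)) * (mk g)⁻¹ := by group
      _ = 1 := by rw [hsq]; group
  · have h1 : (mk g * mk (signCo0 dq) * (mk g)⁻¹) • (g • cl (signCo0 cq • lA)) =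
        g • (signCo0 dq • cl (signCo0 cq • lA)) := by
      rw [← mk_smul g, ← mk_smul g, ← mk_smul (signCo0 dq)]
      rw [mul_smul, mul_smul, inv_smul_smul]
    rw [h1, bf_smul, smul_cl, bf_cl, b0]
    have h2 : ((signCo0 dq • (signCo0 cq • lA) : leechLattice) : GolayPt → ℤ) =
        signMap (qrWord 1) (signMap (qrWord 0) vA) := by
      rw [signCo0_smul, signCo0_smul]
      rfl
    have h3 : ((signCo0 cq • lA : leechLattice) : GolayPt → ℤ) = signMap (qrWord 0) vA := by
      rw [signCo0_smul]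
      rfl
    rw [h2, h3]
    have h4 : dotInt (signMap (qrWord 0) vA) (signMap (qrWord 1) (signMap (qrWord 0) vA)) = 8 := by
      decide +kernel
    rw [h4]
    decide
  · rw [← mk_smul g, mul_smul, mul_smul, inv_smul_smul, mk_smul (signCo0 dq), smul_cl]
    congr 2
    apply Subtype.ext
    rw [signCo0_smul]
    show signMap (qrWord 1) vB = vB
    decide +kernel
  · rw [bf_smul, bf_cl, b0, signCo0_smul]
    show ((dotInt (signMap (qrWord 0) vA) vB / 8 : ℤ) : ZMod 2) = 0
    have h4 : dotInt (signMap (qrWord 0) vA) vB = 16 := by decide +kernel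
    rw [h4]
    decide
  · intro p hp h7 x hx hc hv
    refine co1_key hp h7 (x := (mk g)⁻¹ * x * mk g) ?_ ?_ ?_
    · have h1 := orderOf_injective (MulAut.conj (mk g)⁻¹).toMonoidHom (MulAut.conj (mk g)⁻¹).injective x
      rw [← hx, ← h1]
      show _ = orderOf ((mk g)⁻¹ * x * (mk g)⁻¹⁻¹)
      rw [inv_inv]
    · have h1 : (mk g)⁻¹ * (x * (mk g * mk (signCo0 dq) * (mk g)⁻¹)) * mk g =
          (mk g)⁻¹ * ((mk g * mk (signCo0 dq) * (mk g)⁻¹) * x) * mk g := by rw [hc]
      calc (mk g)⁻¹ * x * mk g * mk (signCo0 dq)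
          = (mk g)⁻¹ * (x * (mk g * mk (signCo0 dq) * (mk g)⁻¹)) * mk g := by group
        _ = _ := h1
        _ = mk (signCo0 dq) * ((mk g)⁻¹ * x * mk g) := by group
    · rw [← mk_smul g] at hv
      rw [mul_smul, mul_smul, hv, inv_smul_smul]

theorem ne_zero_of_type {x : L2} (h : IsType 2 x) : x ≠ 0 := by
  rintro rfl
  obtain ⟨g, hg⟩ := IsType.trans (Or.inl rfl) isType_lB h
  have h1 : cl lB = 0 := by
    have h2 : g⁻¹ • (g • cl lB) = g⁻¹ • (0 : L2) := by rw [hg]
    rw [inv_smul_smul] at h2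
    exact h2.trans (map_zero (act g⁻¹))
  have h2 : bf (cl lB) (cl lA) = 1 := by
    rw [bf_cl, b0]
    show ((dotInt vB vA / 8 : ℤ) : ZMod 2) = 1
    have h4 : dotInt vB vA = 8 := by decide +kernel
    rw [h4]
    decide
  rw [h1, bf_zero_left] at h2
  exact zero_ne_one h2

end Cfsg.Agent.H524.CoKey
end

-- part: H524/SporBaby
section
/-!
# `PrimB` for the Baby Monster

`B = C(t) / ⟨t⟩` in the Monster, `t` in the class `2A`, `t ∈ Q = O₂(C(z))`. An element `y` of order eight of
`C(z) ∩ C(t)` with `y ^ 4 = z` over an involution of `Co₂ ≤ Co₁`.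
-/

set_option autoImplicit false
set_option maxRecDepth 100000

namespace Cfsg.Agent.H524.SporTool

open Subgroup Cfsg Cfsg.Lie Cfsg.Agent.Bimonster Cfsg.Agent.BabyU Cfsg.Agent.TwoESix.Cover
open Cfsg.Agent.MonsterX.KSide Cfsg.Agent.MonsterX.KLift Cfsg.Agent.MonsterX.KModel
open Cfsg.Agent.MonsterX.Model Cfsg.Agent.MonsterX.MainPack Cfsg.Agent.MonsterX.MainSimple
open Cfsg.Agent.MonsterX.MainBasic Cfsg.Agent.MonsterU.Assembly Cfsg.Agent.MonsterN Cfsg.Agent.MonsterN.Lit
open Cfsg.Agent.MonsterN.LitInst Cfsg.Agent.MonsterU.Lam2 Cfsg.Agent.MonsterU.TwoCls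
open Cfsg.Agent.BabyComp Cfsg.Agent.BabyComp.Main Cfsg.Agent.BabyComp.BaseTwo Cfsg.Agent.R01.Lifts
open Cfsg.Agent.H524.DirRed Cfsg.Agent.H524.LargeEight Cfsg.Agent.H524.CoKey

theorem order_eight_b {G : Type*} [Group G] {y z : G} (h : y ^ 4 = z) (hz : z * z = 1) (hz1 : z ≠ 1) :
    orderOf y = 2 ^ 3 := by
  have : Fact (Nat.Prime 2) := ⟨Nat.prime_two⟩
  refine orderOf_eq_prime_pow (n := 2) ?_ ?_
  · rw [show (2 : ℕ) ^ 2 = 4 by norm_num, h]
    exact hz1
  · rw [show (2 : ℕ) ^ (2 + 1) = 4 * 2 by norm_num, pow_mul, h, pow_two, hz]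

/-- the abstract form -/
theorem not_comm_b {G : Type*} [Group G] {Q : Subgroup G} {z t : G} {eta : G → L2}
    {pi : Subgroup.centralizer ({z} : Set G) →* Spor.Co1} (h : Cfsg.Agent.MonsterU.Ch.Chart Q z eta pi) (ht : t ∈ Q)
    (htype : IsType 2 (eta t)) {X : Type*} [Group X] {q : Subgroup.centralizer ({t} : Set G) →* X}
    (hq : Ext q ⟨t, mem_centralizer_singleton_iff.2 rfl⟩) :
    ∃ u : X, orderOf u = 2 ^ 3 ∧ ∀ p : ℕ, p.Prime → (p = 7 ∨ 11 ≤ p) → ∀ x : X, orderOf x = p → ¬ Commute x u := by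
  have h0 := ne_zero_of_type htype
  have ht1 : t ≠ 1 := fun e => h0 (by rw [e]; exact h.eta_one)
  have htz : t ≠ z := fun e => h0 (by rw [e]; exact h.eta_z)
  obtain ⟨g0, v, hg, hv, hgt, hvt, key⟩ := exists_co1 htype
  obtain ⟨y, hy, hpy, hyt⟩ := exists_over' h hg hv ht ht1 htz hgt hvt
  let yt : Subgroup.centralizer ({t} : Set G) := ⟨y, mem_centralizer_singleton_iff.2 hyt⟩
  have htt : z * t = t * z := (h.large.comm_z t ht).symm
  have hz4 : yt ^ 4 = ⟨z, mem_centralizer_singleton_iff.2 htt⟩ := Subtype.ext hy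
  refine ⟨q yt, ?_, ?_⟩
  · refine order_eight_b (z := q (yt ^ 4)) (by rw [map_pow]) ?_ ?_
    · rw [hz4, ← map_mul]
      have h1 : (⟨z, mem_centralizer_singleton_iff.2 htt⟩ : Subgroup.centralizer ({t} : Set G)) *
          ⟨z, mem_centralizer_singleton_iff.2 htt⟩ = 1 := Subtype.ext h.large.z_sq
      rw [h1, map_one]
    · intro h1
      rw [hz4] at h1
      rcases (hq.ker _).1 h1 with h2 | h2
      · exact h.large.z_ne (congrArg Subtype.val h2)
      · exact htz (congrArg Subtype.val h2).symm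
  · intro p hp h7 x hx hc
    have hp2 : p ≠ 2 := by omega
    obtain ⟨b, hb, hbo⟩ := H393.Iso.exists_lift hq hp hp2 hx
    have hcomm : b * yt = yt * b := H393.Iso.lift_comm hq hp hp2 hbo (by rw [hb]; exact hc)
    have hbG : orderOf (b : G) = p := by rw [Subgroup.orderOf_coe, hbo]
    obtain ⟨x', hx'b, hx', hc'⟩ := order_pi h hp hp2 hy hbG (congrArg Subtype.val hcomm)
    rw [hpy] at hc'
    refine key p hp h7 (pi x') hx' hc' ?_
    rw [← h.eta_conj x' t ht, hx'b]
    congr 1
    have h1 : (b : G) * t = t * b := mem_centralizer_singleton_iff.1 b.2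
    rw [h1, mul_inv_cancel_right]

theorem primB_b_model (h2 : PrimB Spor.BabyMonster 2)
    (hN : Nat.card Spor.BabyMonster = 4154781481226426191177580544000000) :
    ∀ p : ℕ, p.Prime → p ∣ Nat.card Spor.BabyMonster → PrimB Spor.BabyMonster p := by
  refine CTwoTab.BInst.elim ?_
  intro K _ _ hK hF _ _ _ _ q y h π f₁ f₂ f₃ f₄ M₁' hq h10 DK Fc hz hcz hcd hL hc5 big hq5 hcard Bs' hr
  have ht2 : orderOf (q (y 5)) = 2 := by
    refine orderOf_eq_prime ?_ ?_
    · rw [pow_two, ← map_mul, h.sq 5 (by norm_num) (by norm_num), map_one]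
    · intro e
      rw [e] at hcard
      have h6 : centralizer ({1} : Set Spor.BabyMonster) = ⊤ := by
        rw [eq_top_iff]
        intro g _
        rw [mem_centralizer_singleton_iff, mul_one, one_mul]
      rw [h6, card_top, hN] at hcard
      norm_num at hcard
  have hcent : Cfsg.Agent.LThreeMB.KChart.Cent Cfsg.Agent.MonsterX.KDone.K := fun g hg =>
    Cfsg.Agent.MonsterN.LitInst.hcent Cfsg.Agent.MonsterX.KDone.lnk CTwoTab.BInst.all g hg
  have hch := Cfsg.Agent.LThreeMB.KChart.chart Cfsg.Agent.MonsterX.KDone.lft hcent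
  have htype : IsType 2 (Cfsg.Agent.LThreeMB.KChart.eta Cfsg.Agent.MonsterX.KDone.lft
      (Cfsg.Agent.MonsterX.KDone.K.ι Cfsg.Agent.MonsterX.KLinkInst.x₀)) := by
    rw [Cfsg.Agent.LThreeMB.KChart.eta_ι]
    exact (Cfsg.Agent.MonsterU.TwoCls.mem_Sh_iff _ _).1 Cfsg.Agent.MonsterX.KDone.lnk.x₀_mem
  obtain ⟨u, hu, key⟩ := not_comm_b hch ⟨_, rfl⟩ htype hq
  refine primB_all hN ht2 (c := 306129918735099415756800) (by rw [hcard])
    [(3, 13), (5, 6), (23, 1), (31, 1), (47, 1)] (by intro a ha; fin_cases ha <;> norm_num)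
    [2, 7, 11, 13, 17, 19] ?_ 41 (by norm_num)
  intro p hp
  simp only [List.mem_cons, List.not_mem_nil, or_false] at hp
  have hgen : ∀ p : ℕ, p.Prime → (p = 7 ∨ 11 ≤ p) → p ∣ Nat.card Spor.BabyMonster → PrimB Spor.BabyMonster p := by
    intro p hp h7 hd
    exact primB_of_not_comm (r := 2) (k := 3) hp Nat.prime_two (by omega) hd hu fun x hx => key p hp h7 x hx
  rcases hp with rfl | rfl | rfl | rfl | rfl | rfl
  · exact ⟨Nat.prime_two, h2⟩
  all_goals exact ⟨by norm_num, hgen _ (by norm_num) (by norm_num) (by rw [hN]; norm_num)⟩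

theorem primB_b {G : Type*} [Group G] [Finite G] (h : Spor.IsoB G) :
    ∀ p : ℕ, p.Prime → p ∣ Nat.card G → PrimB G p := by
  have hN := NotCT.Orders.b h
  have h2 : PrimB G 2 := primB_two (H393.Iso.na_b h) (by norm_num) (by norm_num)
    (by rw [hN]; norm_num) (by rw [hN]; norm_num)
  obtain ⟨e⟩ := h
  have hc := Nat.card_congr e.toEquiv
  intro p hp hd
  exact (primB_b_model (h2.congr e) (by rw [← hc, hN]) p hp (by rwa [← hc])).congr e.symm

end Cfsg.Agent.H524.SporTool
end
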